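import Mathlib

/-!
An irreducible group over the field of three elements generated by conjugates of an element with a
single nontrivial cubic block: setting and first consequences.
-/

set_option autoImplicit false

namespace Cfsg.Agent.Grp.CubicThree

open Module

variable {Γ V : Type*} [Group Γ] [AddCommGroup V] [Module (ZMod 3) V]

theorem zmod3_cases (c : ZMod 3) : c = 0 ∨ c = 1 ∨ c = -1 := by revert c; decide

theorem zmod3_two : (1 + 1 : ZMod 3) = -1 := by decide

theorem three_smul_eq_zero (v : V) : v + v + v = 0 := by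
  have : ((1 : ZMod 3) + 1 + 1) • v = v + v + v := by rw [add_smul, add_smul, one_smul]
  rw [← this, show ((1 : ZMod 3) + 1 + 1) = 0 by decide, zero_smul]

theorem eq_zero_of_neg_eq {v : V} (h : -v = v) : v = 0 := by
  have h3 := three_smul_eq_zero v
  have h2 : v + v = 0 := by
    calc v + v = -v + v := by rw [h]
      _ = 0 := neg_add_cancel v
  rwa [h2, zero_add] at h3

theorem split_vec (v w : V) : v = -(v + w) + -(v - w) := by
  have h3 := three_smul_eq_zero v
  have : v - (-(v + w) + -(v - w)) = v + v + v := by abel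
  exact sub_eq_zero.mp (this.trans h3)

theorem neg_one_ne_one_end [Nontrivial V] : (-1 : Module.End (ZMod 3) V) ≠ 1 := fun h => by
  obtain ⟨v, hv⟩ := exists_ne (0 : V)
  exact hv (eq_zero_of_neg_eq (LinearMap.congr_fun h v))

variable (σ : Γ →* Module.End (ZMod 3) V)

/-- Acting as a scalar. -/
def Scalar (x : Γ) : Prop := σ x = 1 ∨ σ x = -1

/-- The elements acting as scalars. -/
def scalars : Subgroup Γ where
  carrier := {x | Scalar σ x}
  one_mem' := Or.inl (map_one σ)
  mul_mem' := fun {x y} hx hy => by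
    show Scalar σ (x * y)
    unfold Scalar
    rw [map_mul]
    rcases hx with h | h <;> rcases hy with h' | h' <;> simp [h, h']
  inv_mem' := fun {x} hx => by
    show Scalar σ x⁻¹
    have e : σ x⁻¹ * σ x = 1 := by rw [← map_mul, inv_mul_cancel, map_one]
    rcases hx with h | h
    · left; rwa [h, mul_one] at e
    · right
      rw [h, mul_neg, mul_one, neg_eq_iff_eq_neg] at e
      exact e

/-- The setting. -/
structure Cubic (b : Γ) (R : Subgroup Γ) : Prop where
  inj : Function.Injective σ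
  irr : ∀ W : Submodule (ZMod 3) V, (∀ g : Γ, ∀ v ∈ W, σ g v ∈ W) → W = ⊥ ∨ W = ⊤
  b3 : b ^ 3 = 1
  normal : R.Normal
  odd3 : ¬ 3 ∣ Nat.card R
  decomp : ∀ g : Γ, ∃ r ∈ R, ∃ i : ℕ, g = r * b ^ i
  gen : R ≤ Subgroup.closure {x : Γ | ∃ r ∈ R, x = r * b * r⁻¹ * b⁻¹}
  rank2 : finrank (ZMod 3) (LinearMap.range (σ b - 1)) = 2
  cubic : (σ b - 1) * (σ b - 1) ≠ 0

/-- A four-group permuted cyclically by `b`. -/
structure Four (b : Γ) (R : Subgroup Γ) (a : Γ) : Prop where
  mem : a ∈ R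
  sq : a * a = 1
  ne : a ≠ 1
  comm : a * (b * a * b⁻¹) = (b * a * b⁻¹) * a
  prod : a * (b * a * b⁻¹) * (b ^ 2 * a * (b ^ 2)⁻¹) = 1

/-- The conclusion: a four-group, or order 32 with centre, squares and commutators in a group of
order two and an elementary abelian subgroup of order 8. -/
def Shape (R : Subgroup Γ) : Prop :=
  ((∀ x ∈ R, ∀ y ∈ R, x * y = y * x) ∧ (∀ x ∈ R, x * x = 1) ∧ Nat.card R = 4) ∨
  (Nat.card R = 32 ∧ ∃ z ∈ R, z ≠ 1 ∧ z * z = 1 ∧ (∀ x ∈ R, x * z = z * x) ∧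
    (∀ x ∈ R, (∀ y ∈ R, x * y = y * x) → x = 1 ∨ x = z) ∧
    (∀ x ∈ R, ∀ y ∈ R, x * y * x⁻¹ * y⁻¹ = 1 ∨ x * y * x⁻¹ * y⁻¹ = z) ∧
    (∀ x ∈ R, x * x = 1 ∨ x * x = z) ∧
    ∃ A : Subgroup Γ, A ≤ R ∧ Nat.card A = 8 ∧ (∀ x ∈ A, ∀ y ∈ A, x * y = y * x) ∧
      ∀ x ∈ A, x * x = 1)

variable {σ} {b : Γ} {R : Subgroup Γ} {a : Γ}

theorem mem_scalars {x : Γ} : x ∈ scalars σ ↔ Scalar σ x := Iff.rfl

theorem apply_mul (g h : Γ) (v : V) : σ (g * h) v = σ g (σ h v) := by
  rw [map_mul]; rfl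

theorem Scalar.apply {x : Γ} (h : Scalar σ x) (v : V) : σ x v = v ∨ σ x v = -v := by
  rcases h with h | h <;> simp [h]

theorem Scalar.comm (hC : Cubic σ b R) {x : Γ} (h : Scalar σ x) (y : Γ) : x * y = y * x := by
  refine hC.inj ?_
  rw [map_mul, map_mul]
  rcases h with h | h <;> simp [h]

theorem apply_inv_apply (g : Γ) (v : V) : σ g (σ g⁻¹ v) = v := by
  rw [← apply_mul, mul_inv_cancel, map_one]; rfl

theorem inv_apply_apply (g : Γ) (v : V) : σ g⁻¹ (σ g v) = v := by
  rw [← apply_mul, inv_mul_cancel, map_one]; rfl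

theorem Cubic.nilp (hC : Cubic σ b R) : (σ b - 1) * ((σ b - 1) * (σ b - 1)) = 0 := by
  have h3 : σ b * (σ b * σ b) = 1 := by
    rw [← map_mul, ← map_mul, ← mul_assoc, ← pow_two, ← pow_succ, hC.b3, map_one]
  have hexp : (σ b - 1) * ((σ b - 1) * (σ b - 1)) =
      σ b * (σ b * σ b) - 1 + ((σ b + σ b + σ b) - (σ b * σ b + σ b * σ b + σ b * σ b)) := by
    noncomm_ring
  rw [hexp, h3, sub_self, zero_add]
  refine LinearMap.ext fun v => ?_
  simp only [LinearMap.sub_apply, LinearMap.add_apply, three_smul_eq_zero, sub_zero,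
    LinearMap.zero_apply]

variable [Finite V]

/-- The image of the square of `σ b - 1` is a line. -/
theorem Cubic.exists_line (hC : Cubic σ b R) :
    ∃ e : V, e ≠ 0 ∧ e ∈ LinearMap.range ((σ b - 1) * (σ b - 1)) ∧
      ∀ v ∈ LinearMap.range ((σ b - 1) * (σ b - 1)), ∃ c : ZMod 3, v = c • e := by
  set N := σ b - 1 with hN
  set L := LinearMap.range (N * N) with hL
  haveI : FiniteDimensional (ZMod 3) V := Module.Finite.of_finite
  have hle : L ≤ LinearMap.range N := by
    rintro _ ⟨v, rfl⟩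
    exact ⟨N v, rfl⟩
  have hlt : finrank (ZMod 3) L < 2 := by
    rw [← hC.rank2]
    refine Submodule.finrank_lt_finrank_of_lt (lt_of_le_of_ne hle fun h => hC.cubic ?_)
    refine LinearMap.ext fun v => ?_
    have hv : N v ∈ L := h ▸ LinearMap.mem_range_self N v
    obtain ⟨w, hw⟩ := hv
    show N (N v) = 0
    rw [← hw]
    exact LinearMap.congr_fun hC.nilp w
  have hne : L ≠ ⊥ := fun h => hC.cubic (LinearMap.range_eq_bot.mp h)
  obtain ⟨e, he, he0⟩ := Submodule.exists_mem_ne_zero_of_ne_bot hne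
  refine ⟨e, he0, he, fun v hv => ?_⟩
  have h1 : finrank (ZMod 3) L = 1 := by
    have : finrank (ZMod 3) L ≠ 0 := fun h => hne (Submodule.finrank_eq_zero.mp h)
    omega
  obtain ⟨c, hc⟩ := exists_smul_eq_of_finrank_eq_one h1 (show (⟨e, he⟩ : L) ≠ 0 from
    fun h => he0 (congrArg Subtype.val h)) ⟨v, hv⟩
  exact ⟨c, (congrArg Subtype.val hc).symm⟩

/-- An element commuting with `b` has an eigenvector. -/
theorem Cubic.exists_eigen (hC : Cubic σ b R) {x : Γ} (hx : x * b = b * x) :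
    ∃ e : V, e ≠ 0 ∧ (σ x e = e ∨ σ x e = -e) := by
  obtain ⟨e, he0, ⟨v, hv⟩, hline⟩ := hC.exists_line
  have hcomm : σ x * (σ b - 1) = (σ b - 1) * σ x := by
    rw [mul_sub, sub_mul, ← map_mul, hx, map_mul, mul_one, one_mul]
  have hmem : σ x e ∈ LinearMap.range ((σ b - 1) * (σ b - 1)) := ⟨σ x v, by
    rw [← hv]
    show ((σ b - 1) * (σ b - 1) * σ x) v = (σ x * ((σ b - 1) * (σ b - 1))) v
    rw [← mul_assoc (σ x), hcomm, mul_assoc (σ b - 1) (σ x), hcomm, mul_assoc]⟩
  obtain ⟨c, hc⟩ := hline _ hmem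
  refine ⟨e, he0, ?_⟩
  rcases zmod3_cases c with rfl | rfl | rfl
  · rw [zero_smul] at hc
    exact absurd (by rw [← inv_apply_apply (σ := σ) x e, hc, map_zero]) he0
  · left; rw [hc, one_smul]
  · right; rw [hc, neg_smul, one_smul]

/-- Central elements are scalars. -/
theorem Cubic.scalar_of_central (hC : Cubic σ b R) {x : Γ} (hx : ∀ g : Γ, x * g = g * x) :
    Scalar σ x := by
  obtain ⟨e, he0, he⟩ := hC.exists_eigen (hx b)
  have key : ∀ f : Module.End (ZMod 3) V, (∀ g : Γ, f * σ g = σ g * f) → f e = 0 → f = 0 := by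
    intro f hf he'
    rcases hC.irr (LinearMap.ker f) (fun g v hv => by
      rw [LinearMap.mem_ker] at hv ⊢
      show (f * σ g) v = 0
      rw [hf]
      show σ g (f v) = 0
      rw [hv, map_zero]) with h | h
    · exact absurd ((Submodule.mem_bot (ZMod 3)).mp (h ▸ LinearMap.mem_ker.mpr he')) he0
    · exact LinearMap.ker_eq_top.mp h
  have hg : ∀ g, σ x * σ g = σ g * σ x := fun g => by rw [← map_mul, hx g, map_mul]
  rcases he with he | he
  · left
    exact sub_eq_zero.mp (key (σ x - 1) (fun g => by rw [sub_mul, mul_sub, hg, one_mul, mul_one])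
      (by rw [LinearMap.sub_apply, he]; exact sub_self e))
  · right
    exact eq_neg_of_add_eq_zero_left (key (σ x + 1)
      (fun g => by rw [add_mul, mul_add, hg, one_mul, mul_one])
      (by rw [LinearMap.add_apply, he]; exact neg_add_cancel e))

/-- No element with square `-1` commutes with `b`. -/
theorem Cubic.sq_ne_neg_one (hC : Cubic σ b R) {x : Γ} (hx : x * b = b * x)
    (h : σ (x * x) = -1) : False := by
  obtain ⟨e, he0, he⟩ := hC.exists_eigen hx
  have : σ x (σ x e) = -e := by rw [← apply_mul, h]; rfl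
  rcases he with he | he
  · rw [he, he] at this
    exact he0 (eq_zero_of_neg_eq this.symm)
  · rw [he, map_neg, he, neg_neg] at this
    exact he0 (eq_zero_of_neg_eq this.symm)

/-- Three independent subspaces permuted by `b` are lines. -/
theorem Cubic.triple_rank (hC : Cubic σ b R) (Y : Submodule (ZMod 3) V)
    (hind : ∀ x ∈ Y, ∀ y ∈ Y, ∀ w ∈ Y, x + σ b y + σ b (σ b w) = 0 → x = 0 ∧ y = 0 ∧ w = 0) :
    finrank (ZMod 3) Y ≤ 1 := by
  haveI : FiniteDimensional (ZMod 3) V := Module.Finite.of_finite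
  let f : Y × Y →ₗ[ZMod 3] LinearMap.range (σ b - 1) :=
    { toFun := fun p => ⟨(σ b - 1) ((p.1 : V) + σ b p.2), LinearMap.mem_range_self _ _⟩
      map_add' := fun p q => Subtype.ext (by
        simp only [Prod.fst_add, Prod.snd_add, Submodule.coe_add, map_add]; abel)
      map_smul' := fun c p => Subtype.ext (by
        simp only [Prod.smul_fst, Prod.smul_snd, Submodule.coe_smul, map_smul, ← smul_add,
          RingHom.id_apply]) }
  have hf : Function.Injective f := by
    refine LinearMap.ker_eq_bot.mp (LinearMap.ker_eq_bot'.mpr fun p hp => ?_)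
    have e : (σ b - 1) ((p.1 : V) + σ b p.2) = 0 := congrArg Subtype.val hp
    have e' : -(p.1 : V) + σ b ((p.1 : V) - p.2) + σ b (σ b p.2) = 0 := by
      rw [← e]
      simp only [LinearMap.sub_apply, Module.End.one_apply, map_add, map_sub]
      abel
    obtain ⟨h1, -, h3⟩ := hind _ (Y.neg_mem p.1.2) _ (Y.sub_mem p.1.2 p.2.2) _ p.2.2 e'
    exact Prod.ext (Subtype.ext (neg_eq_zero.mp h1)) (Subtype.ext h3)
  have := LinearMap.finrank_le_finrank_of_injective hf
  rw [Module.finrank_prod, hC.rank2] at this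
  omega

section Four

variable (σ)

/-- Fixed space. -/
def fixSp (x : Γ) : Submodule (ZMod 3) V := LinearMap.ker (σ x - 1)

/-- Negated space. -/
def negSp (x : Γ) : Submodule (ZMod 3) V := LinearMap.ker (σ x + 1)

variable {σ}

theorem mem_fixSp {x : Γ} {v : V} : v ∈ fixSp σ x ↔ σ x v = v := by
  rw [fixSp, LinearMap.mem_ker, LinearMap.sub_apply, sub_eq_zero]; rfl

theorem mem_negSp {x : Γ} {v : V} : v ∈ negSp σ x ↔ σ x v = -v := by
  rw [negSp, LinearMap.mem_ker, LinearMap.add_apply, add_eq_zero_iff_eq_neg]; rfl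

theorem negSp_conj (g x : Γ) {v : V} : σ g v ∈ negSp σ (g * x * g⁻¹) ↔ v ∈ negSp σ x := by
  rw [mem_negSp, mem_negSp, apply_mul, apply_mul, inv_apply_apply, ← map_neg]
  exact ⟨fun h => by simpa [inv_apply_apply] using congrArg (σ g⁻¹) h, fun h => by rw [h]⟩

theorem fixSp_conj (g x : Γ) {v : V} : σ g v ∈ fixSp σ (g * x * g⁻¹) ↔ v ∈ fixSp σ x := by
  rw [mem_fixSp, mem_fixSp, apply_mul, apply_mul, inv_apply_apply]
  exact ⟨fun h => by simpa [inv_apply_apply] using congrArg (σ g⁻¹) h, fun h => by rw [h]⟩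

theorem isCompl_fix_neg {x : Γ} (hx : x * x = 1) : IsCompl (fixSp σ x) (negSp σ x) := by
  refine isCompl_iff.mpr ⟨Submodule.disjoint_def.mpr fun v hv hv' => ?_,
    codisjoint_iff.mpr (top_le_iff.mp fun v _ => ?_)⟩
  · rw [mem_fixSp] at hv; rw [mem_negSp, hv] at hv'
    exact eq_zero_of_neg_eq hv'.symm
  · have hxx : σ x (σ x v) = v := by rw [← apply_mul, hx, map_one]; rfl
    rw [split_vec v (σ x v)]
    refine Submodule.add_mem_sup (mem_fixSp.mpr ?_) (mem_negSp.mpr ?_)
    · rw [map_neg, map_add, hxx, add_comm]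
    · rw [map_neg, map_sub, hxx, neg_sub, neg_neg]

/-- The common negated line of `a` and its conjugate. -/
theorem Four.negSp_facts (hC : Cubic σ b R) (h4 : Four b R a) :
    finrank (ZMod 3) ↥(negSp σ a ⊓ negSp σ (b * a * b⁻¹)) = 1 ∧
      finrank (ZMod 3) ↥(negSp σ a) = 2 := by
  haveI : FiniteDimensional (ZMod 3) V := Module.Finite.of_finite
  set a' := b * a * b⁻¹ with ha'
  set a'' := b ^ 2 * a * (b ^ 2)⁻¹ with ha''
  have h' : b * a' * b⁻¹ = a'' := by rw [ha', ha'', pow_two]; group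
  have hb3 : b * b ^ 2 = 1 := by rw [← pow_succ', hC.b3]
  have h'' : b * a'' * b⁻¹ = a := by
    have : b * a'' * b⁻¹ = (b * b ^ 2) * a * (b * b ^ 2)⁻¹ := by rw [ha'']; group
    rw [this, hb3, one_mul, inv_one, mul_one]
  have hsq' : a' * a' = 1 := by
    calc a' * a' = b * (a * a) * b⁻¹ := by rw [ha']; group
      _ = 1 := by rw [h4.sq]; group
  have hprod : a'' = a * a' := by
    have h := h4.prod
    rw [← ha', ← ha''] at h
    rw [eq_inv_of_mul_eq_one_right h, mul_inv_rev, inv_eq_of_mul_eq_one_right hsq',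
      inv_eq_of_mul_eq_one_right h4.sq]
    exact h4.comm.symm
  set X := negSp σ a ⊓ negSp σ a' with hX
  have hbX : ∀ v ∈ X, σ b v ∈ negSp σ a' ∧ σ b v ∈ negSp σ a'' := fun v hv =>
    ⟨(negSp_conj b a).mpr hv.1, h' ▸ (negSp_conj b a').mpr hv.2⟩
  have hbbX : ∀ v ∈ X, σ b (σ b v) ∈ negSp σ a'' ∧ σ b (σ b v) ∈ negSp σ a := fun v hv =>
    ⟨h' ▸ (negSp_conj b a').mpr (hbX v hv).1, h'' ▸ (negSp_conj b a'').mpr (hbX v hv).2⟩
  have hfix1 : ∀ v ∈ X, σ a'' v = v := fun v hv => by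
    rw [hprod, apply_mul, mem_negSp.mp hv.2, map_neg, mem_negSp.mp hv.1, neg_neg]
  have hfix2 : ∀ v ∈ X, σ a (σ b v) = σ b v := fun v hv => by
    conv_lhs => rw [← h'']
    exact mem_fixSp.mp ((fixSp_conj b a'').mpr (mem_fixSp.mpr (hfix1 v hv)))
  have hfix3 : ∀ v ∈ X, σ a' (σ b (σ b v)) = σ b (σ b v) := fun v hv => by
    conv_lhs => rw [ha']
    exact mem_fixSp.mp ((fixSp_conj b a).mpr (mem_fixSp.mpr (hfix2 v hv)))
  have hind : ∀ x ∈ X, ∀ y ∈ X, ∀ w ∈ X, x + σ b y + σ b (σ b w) = 0 → x = 0 ∧ y = 0 ∧ w = 0 := by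
    intro x hx y hy w hw h
    have e1 := congrArg (σ a) h
    rw [map_add, map_add, mem_negSp.mp hx.1, hfix2 y hy, mem_negSp.mp (hbbX w hw).2, map_zero] at e1
    have e2 := congrArg (σ a') h
    rw [map_add, map_add, mem_negSp.mp hx.2, mem_negSp.mp (hbX y hy).1, hfix3 w hw, map_zero] at e2
    have hy0 : σ b y = 0 := eq_zero_of_neg_eq (by
      have h12 : σ b y + σ b y = 0 := by
        calc σ b y + σ b y = (x + σ b y + σ b (σ b w)) + (-x + σ b y + -σ b (σ b w)) := by abel
          _ = 0 := by rw [h, e1, add_zero]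
      exact (eq_neg_of_add_eq_zero_left h12).symm)
    have hw0 : σ b (σ b w) = 0 := eq_zero_of_neg_eq (by
      have h12 : σ b (σ b w) + σ b (σ b w) = 0 := by
        calc σ b (σ b w) + σ b (σ b w)
            = (x + σ b y + σ b (σ b w)) + (-x + -σ b y + σ b (σ b w)) := by abel
          _ = 0 := by rw [h, e2, add_zero]
      exact (eq_neg_of_add_eq_zero_left h12).symm)
    rw [hy0, hw0, add_zero, add_zero] at h
    refine ⟨h, ?_, ?_⟩
    · rw [← inv_apply_apply (σ := σ) b y, hy0, map_zero]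
    · rw [← inv_apply_apply (σ := σ) b w, ← inv_apply_apply (σ := σ) b (σ b w), hw0, map_zero,
        map_zero]
  have hX1 := hC.triple_rank X hind
  -- the negated space is the sum of two of the lines
  have hX' : ∀ v ∈ negSp σ a, ∃ x ∈ X, ∃ w ∈ X, v = x + σ b (σ b w) := by
    intro v hv
    rw [mem_negSp] at hv
    have ha'v : σ a (σ a' v) = -σ a' v := by rw [← apply_mul, h4.comm, apply_mul, hv, map_neg]
    have ha'' : σ a' (σ a' v) = v := by rw [← apply_mul, hsq', map_one]; rfl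
    have hy : -(v + σ a' v) ∈ negSp σ a ⊓ fixSp σ a' := by
      refine ⟨mem_negSp.mpr ?_, mem_fixSp.mpr ?_⟩
      · rw [map_neg, map_add, hv, ha'v]; abel
      · rw [map_neg, map_add, ha'', add_comm]
    refine ⟨-(v - σ a' v), ⟨mem_negSp.mpr ?_, mem_negSp.mpr ?_⟩,
      σ b (-(v + σ a' v)), ⟨?_, ?_⟩, ?_⟩
    · rw [map_neg, map_sub, hv, ha'v]; abel
    · rw [map_neg, map_sub, ha'']; abel
    · have hyneg : -(v + σ a' v) ∈ negSp σ a'' := mem_negSp.mpr (by
        rw [hprod, apply_mul, mem_fixSp.mp hy.2, mem_negSp.mp hy.1])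
      rw [← h'']
      exact (negSp_conj b a'').mpr hyneg
    · exact (negSp_conj b a).mpr hy.1
    · rw [show σ b (σ b (σ b (-(v + σ a' v)))) = -(v + σ a' v) by
        rw [← apply_mul, ← apply_mul, ← pow_two, ← pow_succ, hC.b3, map_one]; rfl, add_comm]
      exact split_vec v (σ a' v)
  have hX0 : X ≠ ⊥ := fun h => h4.ne (hC.inj (by
    refine LinearMap.ext fun v => ?_
    rw [map_one, Module.End.one_apply]
    have hc := (isCompl_fix_neg (σ := σ) h4.sq).sup_eq_top
    obtain ⟨p, hp, q, hq, rfl⟩ := Submodule.mem_sup.mp (hc ▸ Submodule.mem_top (x := v))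
    obtain ⟨x, hx, w, hw, rfl⟩ := hX' q hq
    rw [h, Submodule.mem_bot] at hx hw
    rw [hx, hw, map_zero, map_zero, add_zero, add_zero, mem_fixSp.mp hp]))
  have hXd : finrank (ZMod 3) X = 1 := by
    have : finrank (ZMod 3) X ≠ 0 := fun h => hX0 (Submodule.finrank_eq_zero.mp h)
    omega
  refine ⟨hXd, ?_⟩
  let g : X × X →ₗ[ZMod 3] negSp σ a :=
    { toFun := fun p => ⟨(p.1 : V) + σ b (σ b p.2),
        Submodule.add_mem _ p.1.2.1 (hbbX _ p.2.2).2⟩
      map_add' := fun p q => Subtype.ext (by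
        simp only [Prod.fst_add, Prod.snd_add, Submodule.coe_add, map_add]; abel)
      map_smul' := fun c p => Subtype.ext (by
        simp only [Prod.smul_fst, Prod.smul_snd, Submodule.coe_smul, map_smul, ← smul_add,
          RingHom.id_apply]) }
  have hgi : Function.Injective g := LinearMap.ker_eq_bot.mp (LinearMap.ker_eq_bot'.mpr fun p hp => by
    have e : (p.1 : V) + σ b ((0 : X) : V) + σ b (σ b p.2) = 0 := by
      rw [Submodule.coe_zero, map_zero, add_zero]; exact congrArg Subtype.val hp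
    obtain ⟨h1, -, h3⟩ := hind _ p.1.2 _ (0 : X).2 _ p.2.2 e
    exact Prod.ext (Subtype.ext h1) (Subtype.ext h3))
  have hgs : Function.Surjective g := fun v => by
    obtain ⟨x, hx, w, hw, hv⟩ := hX' v v.2
    exact ⟨(⟨x, hx⟩, ⟨w, hw⟩), Subtype.ext hv.symm⟩
  rw [← (LinearEquiv.ofBijective g ⟨hgi, hgs⟩).finrank_eq, Module.finrank_prod, hXd]

end Four

end Cfsg.Agent.Grp.CubicThree
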