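import Mathlib
import Cfsg.Agent.Lib.Grp.CubicThree.Setup

/-!
Elements commuting or anticommuting in the image: the calculus of pairs.
-/

set_option autoImplicit false

namespace Cfsg.Agent.Grp.CubicThree

open Module

variable {Γ V : Type*} [Group Γ] [AddCommGroup V] [Module (ZMod 3) V]
variable {σ : Γ →* Module.End (ZMod 3) V} {b : Γ} {R : Subgroup Γ}

variable (σ) in
/-- The images anticommute. -/
def Anti (g h : Γ) : Prop := σ (g * h) = -σ (h * g)

variable (σ) in
/-- The images commute or anticommute. -/
def CA (g h : Γ) : Prop := Commute g h ∨ Anti σ g h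

theorem Anti.symm {g h : Γ} (H : Anti σ g h) : Anti σ h g := (neg_eq_iff_eq_neg.mpr H).symm

theorem CA.symm {g h : Γ} (H : CA σ g h) : CA σ h g := H.imp Commute.symm Anti.symm

theorem Cubic.nontrivial (hC : Cubic σ b R) : Nontrivial V := by
  by_contra h
  rw [not_nontrivial_iff_subsingleton] at h
  exact hC.cubic (LinearMap.ext fun v => Subsingleton.elim _ _)

theorem Anti.not_commute (hC : Cubic σ b R) {g h : Γ} (H : Anti σ g h) : ¬ Commute g h := by
  intro hc
  haveI := hC.nontrivial
  obtain ⟨v, hv⟩ := exists_ne (0 : V)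
  have e : σ (g * h) = -σ (g * h) := by
    conv_rhs => rw [hc.eq]
    exact H
  have e' := LinearMap.congr_fun e v
  rw [LinearMap.neg_apply] at e'
  exact hv (by
    rw [← inv_apply_apply (σ := σ) (g * h) v, eq_zero_of_neg_eq e'.symm, map_zero])

theorem Anti.mul_commute {g k h : Γ} (H : Anti σ g h) (H' : Commute k h) : Anti σ (g * k) h := by
  unfold Anti at *
  calc σ (g * k * h) = σ (g * h) * σ k := by rw [← map_mul, mul_assoc, H'.eq, mul_assoc]
    _ = -(σ (h * (g * k))) := by rw [H, neg_mul, ← map_mul, mul_assoc]

theorem commute_mul_anti {g k h : Γ} (H : Commute g h) (H' : Anti σ k h) : Anti σ (g * k) h := by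
  unfold Anti at *
  calc σ (g * k * h) = σ g * σ (k * h) := by rw [← map_mul, mul_assoc]
    _ = -(σ (h * (g * k))) := by rw [H', mul_neg, ← map_mul, ← mul_assoc, H.eq, mul_assoc]

theorem Anti.mul_anti (hC : Cubic σ b R) {g k h : Γ} (H : Anti σ g h) (H' : Anti σ k h) :
    Commute (g * k) h := by
  refine hC.inj ?_
  unfold Anti at H H'
  calc σ (g * k * h) = σ g * σ (k * h) := by rw [← map_mul, mul_assoc]
    _ = -(σ (g * h) * σ k) := by rw [H', mul_neg, ← map_mul, ← map_mul, mul_assoc]
    _ = σ (h * (g * k)) := by rw [H, neg_mul, neg_neg, ← map_mul, mul_assoc]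

theorem scalar_iff_CA (hC : Cubic σ b R) {g h : Γ} :
    Scalar σ (g * h * g⁻¹ * h⁻¹) ↔ CA σ g h := by
  have e : σ (g * h) = σ (g * h * g⁻¹ * h⁻¹) * σ (h * g) := by
    rw [← map_mul]; congr 1; group
  constructor
  · rintro (H | H)
    · left
      exact hC.inj (by rw [e, H, one_mul])
    · right
      show σ (g * h) = _
      rw [e, H, neg_mul, one_mul]
  · rintro (H | H)
    · left
      rw [H.eq, mul_inv_cancel_right, mul_inv_cancel, map_one]
    · right
      calc σ (g * h * g⁻¹ * h⁻¹) = σ (g * h) * σ (h * g)⁻¹ := by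
            rw [← map_mul]; congr 1; group
        _ = -1 := by rw [H, neg_mul, ← map_mul, mul_inv_cancel, map_one]

/-- Select. -/
def sel (i : Bool) (x : Γ) : Γ := if i then x else 1

theorem commute_sel {x u : Γ} (h : Commute x u) (i : Bool) : Commute (sel i x) u := by
  cases i
  · exact Commute.one_left u
  · exact h

theorem sel_mem {K : Subgroup Γ} {x : Γ} (h : x ∈ K) (i : Bool) : sel i x ∈ K := by
  cases i
  · exact K.one_mem
  · exact h

/-- An element can be corrected by a pair to commute with it. -/
theorem adjust (hC : Cubic σ b R) {x y g : Γ} (hxy : Anti σ x y) (hgx : CA σ g x)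
    (hgy : CA σ g y) :
    ∃ i j, Commute (sel i x * sel j y * g) x ∧ Commute (sel i x * sel j y * g) y := by
  have hxx : Commute x x := Commute.refl x
  have hyy : Commute y y := Commute.refl y
  rcases hgx with h1 | h1 <;> rcases hgy with h2 | h2
  · exact ⟨false, false, by simpa [sel] using h1, by simpa [sel] using h2⟩
  · exact ⟨true, false, by simpa [sel] using hxx.mul_left h1,
      by simpa [sel] using hxy.mul_anti hC h2⟩
  · exact ⟨false, true, by simpa [sel] using hxy.symm.mul_anti hC h1,
      by simpa [sel] using hyy.mul_left h2⟩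
  · refine ⟨true, true, ?_, ?_⟩
    · simp only [sel, if_true]
      exact (commute_mul_anti hxx hxy.symm).mul_anti hC h1
    · simp only [sel, if_true]
      exact (hxy.mul_commute hyy).mul_anti hC h2

variable (σ) in
/-- Pairwise commuting or anticommuting, with scalar squares. -/
structure Cls (M : Subgroup Γ) : Prop where
  comm : ∀ g ∈ M, ∀ h ∈ M, CA σ g h
  sq : ∀ g ∈ M, Scalar σ (g * g)

theorem card_pair (hC : Cubic σ b R) [Finite Γ] {K : Subgroup Γ} (hK : Cls σ K) {x y : Γ}
    (hx : x ∈ K) (hy : y ∈ K) (hxy : Anti σ x y) :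
    Nat.card K = 4 * Nat.card ↥(K ⊓ Subgroup.centralizer {x, y}) := by
  let C := K ⊓ Subgroup.centralizer {x, y}
  have hC' : ∀ c : C, Commute (c : Γ) x ∧ Commute (c : Γ) y := fun c =>
    ⟨(Subgroup.mem_centralizer_iff.mp c.2.2 x (by simp)).symm,
      (Subgroup.mem_centralizer_iff.mp c.2.2 y (by simp)).symm⟩
  let f : Bool × Bool × C → K := fun t =>
    ⟨(sel t.1 x * sel t.2.1 y)⁻¹ * t.2.2,
      K.mul_mem (K.inv_mem (K.mul_mem (sel_mem hx _) (sel_mem hy _))) t.2.2.2.1⟩
  have hxx : Commute x x := Commute.refl x
  have hyy : Commute y y := Commute.refl y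
  have hf : Function.Bijective f := by
    constructor
    · rintro ⟨i, j, c⟩ ⟨i', j', c'⟩ h
      have h' : (sel i x * sel j y)⁻¹ * c = (sel i' x * sel j' y)⁻¹ * c' := congrArg Subtype.val h
      have e : sel i' x * sel j' y * ((sel i x * sel j y)⁻¹ * (c : Γ)) = c' := by
        rw [h', mul_inv_cancel_left]
      have hcx : Commute (sel i' x * sel j' y * (sel i x * sel j y)⁻¹) x := by
        have := (hC' c').1.mul_left (hC' c).1.inv_left
        rwa [← e, ← mul_assoc, mul_inv_cancel_right] at this
      have hcy : Commute (sel i' x * sel j' y * (sel i x * sel j y)⁻¹) y := by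
        have := (hC' c').2.mul_left (hC' c).2.inv_left
        rwa [← e, ← mul_assoc, mul_inv_cancel_right] at this
      have key : ∀ u i j, Commute u x → Commute u y →
          (Commute (u * (sel i x * sel j y)) y ↔ i = false) ∧
            (Commute (u * (sel i x * sel j y)) x ↔ j = false) := by
        intro u i j hux huy
        constructor
        · cases i
          · exact ⟨fun _ => rfl, fun _ => huy.mul_left ((Commute.one_left y).mul_left
              (commute_sel hyy j))⟩
          · refine ⟨fun hh => absurd hh (Anti.not_commute hC ?_), fun hh => Bool.noConfusion hh⟩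
            exact commute_mul_anti huy (hxy.mul_commute (commute_sel hyy j))
        · cases j
          · exact ⟨fun _ => rfl, fun _ => hux.mul_left ((commute_sel hxx i).mul_left
              (Commute.one_left x))⟩
          · refine ⟨fun hh => absurd hh (Anti.not_commute hC ?_), fun hh => Bool.noConfusion hh⟩
            exact commute_mul_anti hux (commute_mul_anti (commute_sel hxx i) hxy.symm)
      have k1 := key _ i j hcx hcy
      have k2 := key 1 i' j' (Commute.one_left x) (Commute.one_left y)
      rw [inv_mul_cancel_right] at k1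
      rw [one_mul] at k2
      have hi : i = i' := by
        rcases Bool.eq_false_or_eq_true i with h1 | h1 <;>
          rcases Bool.eq_false_or_eq_true i' with h2 | h2 <;> simp_all
      have hj : j = j' := by
        rcases Bool.eq_false_or_eq_true j with h1 | h1 <;>
          rcases Bool.eq_false_or_eq_true j' with h2 | h2 <;> simp_all
      subst hi hj
      exact Prod.ext rfl (Prod.ext rfl (Subtype.ext (mul_left_cancel h')))
    · intro g
      obtain ⟨i, j, h1, h2⟩ := adjust hC hxy (hK.comm _ g.2 _ hx) (hK.comm _ g.2 _ hy)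
      refine ⟨(i, j, ⟨sel i x * sel j y * g,
        K.mul_mem (K.mul_mem (sel_mem hx i) (sel_mem hy j)) g.2, ?_⟩), Subtype.ext ?_⟩
      · refine Subgroup.mem_centralizer_iff.mpr fun t ht => ?_
        rcases ht with rfl | rfl
        · exact h1.symm.eq
        · exact h2.symm.eq
      · show (sel i x * sel j y)⁻¹ * (sel i x * sel j y * (g : Γ)) = g
        rw [inv_mul_cancel_left]
  rw [← Nat.card_eq_of_bijective f hf, Nat.card_prod, Nat.card_prod]
  simp only [Nat.card_eq_fintype_card, Fintype.card_bool]
  ring

end Cfsg.Agent.Grp.CubicThree
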