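import Mathlib

/-!
Pairs of 3-cycles whose quotient and commutator lie in a group of order prime to three.
-/

set_option autoImplicit false

namespace Cfsg.Agent.Grp.CubicThree

open Equiv

variable {α : Type*} [Finite α] [DecidableEq α]

/-- `c` is a 3-cycle, described pointwise. -/
def IsTri (c : Perm α) : Prop :=
  ∃ p : α, c p ≠ p ∧ c (c p) ≠ p ∧ c (c p) ≠ c p ∧ c (c (c p)) = p ∧
    ∀ y, y ≠ p → y ≠ c p → y ≠ c (c p) → c y = y

variable {c d : Perm α}

theorem IsTri.at (hc : IsTri c) {q : α} (hq : c q ≠ q) :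
    c (c q) ≠ q ∧ c (c q) ≠ c q ∧ c (c (c q)) = q ∧
      ∀ y, y ≠ q → y ≠ c q → y ≠ c (c q) → c y = y := by
  obtain ⟨p, h1, h2, h3, h4, h5⟩ := hc
  rcases em (q = p) with rfl | e1
  · exact ⟨h2, h3, h4, h5⟩
  rcases em (q = c p) with rfl | e2
  · rw [h4]
    exact ⟨h1.symm, h2.symm, rfl, fun y a b cc => h5 y cc a b⟩
  rcases em (q = c (c p)) with rfl | e3
  · rw [h4]
    exact ⟨h3.symm, h1, rfl, fun y a b cc => h5 y b cc a⟩
  exact absurd (h5 q e1 e2 e3) hq

theorem IsTri.cube (hc : IsTri c) (y : α) : c (c (c y)) = y := by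
  by_cases h : c y = y
  · rw [h, h, h]
  · exact (hc.at h).2.2.1

theorem IsTri.inv_apply (hc : IsTri c) (y : α) : c⁻¹ y = c (c y) := by
  rw [Perm.inv_eq_iff_eq, hc.cube]

variable {H : Subgroup (Perm α)}

theorem eq_one_of_cube (h3 : ¬ 3 ∣ Nat.card H) {x : Perm α} (hx : x ∈ H)
    (hcube : ∀ y, x (x (x y)) = y) : x = 1 := by
  have hp : x ^ 3 = 1 := Perm.ext fun y => by
    rw [pow_three, Perm.mul_apply, Perm.mul_apply, hcube]; rfl
  rcases (Nat.dvd_prime Nat.prime_three).mp (orderOf_dvd_of_pow_eq_one hp) with h | h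
  · exact orderOf_eq_one_iff.mp h
  · exact absurd (h ▸ Subgroup.orderOf_dvd_natCard H hx) h3

/-- The supports meet. -/
theorem IsTri.exists_common (hc : IsTri c) (hd : IsTri d) (h3 : ¬ 3 ∣ Nat.card H)
    (h1 : c * d⁻¹ ∈ H) : ∃ p, c p ≠ p ∧ d p ≠ p := by
  by_contra hcon
  push Not at hcon
  have hdis : ∀ y, c y = y ∨ d y = y := fun y => or_iff_not_imp_left.mpr fun h => hcon y h
  have hcomm : Commute c d := Perm.Disjoint.commute hdis
  have hx : c * d⁻¹ = 1 := eq_one_of_cube h3 h1 fun y => by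
    have e : (c * d⁻¹) ^ 3 = 1 := by
      rw [(hcomm.inv_right).mul_pow]
      have hc3 : c ^ 3 = 1 := Perm.ext fun z => by
        rw [pow_three, Perm.mul_apply, Perm.mul_apply, hc.cube]; rfl
      have hd3 : d ^ 3 = 1 := Perm.ext fun z => by
        rw [pow_three, Perm.mul_apply, Perm.mul_apply, hd.cube]; rfl
      rw [hc3, inv_pow, hd3, inv_one, mul_one]
    simpa [pow_three] using Equiv.ext_iff.mp e y
  obtain ⟨p, hp, -⟩ := hc
  have hcd : c = d := mul_inv_eq_one.mp hx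
  exact hp ((hdis p).elim id fun h => hcd ▸ h)

/-- Agreement at a moved point forces equality. -/
theorem IsTri.eq_of_agree (hc : IsTri c) (hd : IsTri d) (h3 : ¬ 3 ∣ Nat.card H)
    (h1 : c * d⁻¹ ∈ H) {p : α} (hp : c p ≠ p) (he : d p = c p) : c = d := by
  have hdp : d p ≠ p := he ▸ hp
  obtain ⟨cA, cB, cC, cF⟩ := hc.at hp
  obtain ⟨dA, dB, dC, dF⟩ := hd.at hdp
  by_cases hax : d (d p) = c (c p)
  · refine Perm.ext fun y => ?_
    rcases em (y = p) with rfl | e1
    · exact he.symm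
    rcases em (y = c p) with rfl | e2
    · rw [← hax, he]
    rcases em (y = c (c p)) with rfl | e3
    · rw [cC, ← hax, dC]
    rw [cF y e1 e2 e3, dF y e1 (he ▸ e2) (hax ▸ e3)]
  · refine mul_inv_eq_one.mp (eq_one_of_cube h3 h1 fun y => ?_)
    have hval : ∀ z, (c * d⁻¹) z = c (d (d z)) := fun z => by rw [Perm.mul_apply, hd.inv_apply]
    simp only [hval]
    rw [he] at dA dB dC dF hax
    have fca : c (d (c p)) = d (c p) := cF _ dA dB hax
    have fda : d (c (c p)) = c (c p) := dF _ cA cB (fun h => hax h.symm)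
    rcases em (y = p) with rfl | e1
    · simp only [he, fca, dC, cC, fda]
    rcases em (y = c p) with rfl | e2
    · simp only [dC]
    rcases em (y = c (c p)) with rfl | e3
    · simp only [fda, cC, he, fca, dC]
    rcases em (y = d (c p)) with rfl | e4
    · simp only [dC, he, cC, fda, fca]
    simp only [dF y e1 e2 e4, cF y e1 e2 e3]

/-- The supports do not meet in a single point. -/
theorem IsTri.two_common (hc : IsTri c) (hd : IsTri d) (h3 : ¬ 3 ∣ Nat.card H)
    (h2 : c * d * c⁻¹ * d⁻¹ ∈ H) {p : α} (hp : c p ≠ p) (hp' : d p ≠ p) :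
    ∃ q, q ≠ p ∧ c q ≠ q ∧ d q ≠ q := by
  by_contra hcon
  push Not at hcon
  obtain ⟨cA, cB, cC, cF⟩ := hc.at hp
  obtain ⟨dA, dB, dC, dF⟩ := hd.at hp'
  have ma : c (c p) ≠ c p := cB
  have fa : d (c p) = c p := hcon _ hp ma
  have fb : d (c (c p)) = c (c p) := hcon _ cA (by rw [cC]; exact cA.symm)
  have fx : c (d p) = d p := by
    by_contra h
    exact dB (hcon _ hp' h)
  have fy : c (d (d p)) = d (d p) := by
    by_contra h
    have := hcon _ dA h
    rw [dC] at this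
    exact dA this.symm
  have hval : ∀ z, (c * d * c⁻¹ * d⁻¹) z = c (d (c (c (d (d z))))) := fun z => by
    simp only [Perm.mul_apply, hc.inv_apply, hd.inv_apply]
  have h1 := eq_one_of_cube h3 h2 fun y => by
    simp only [hval]
    rcases em (y = p) with rfl | e1
    · simp only [fa, fb, fx, fy, cC, dC]
    rcases em (y = c p) with rfl | e2
    · simp only [fa, fb, fx, fy, cC, dC]
    rcases em (y = c (c p)) with rfl | e3
    · simp only [fa, fb, fx, fy, cC, dC]
    rcases em (y = d p) with rfl | e4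
    · simp only [fa, fb, fx, fy, cC, dC]
    rcases em (y = d (d p)) with rfl | e5
    · simp only [fa, fb, fx, fy, cC, dC]
    simp only [cF y e1 e2 e3, dF y e1 e4 e5]
  have h2' := Equiv.ext_iff.mp h1 (d p)
  rw [hval, Perm.one_apply] at h2'
  simp only [dC, fb, cC] at h2'
  exact hp' h2'.symm

theorem IsTri.conj (hc : IsTri c) (k : Perm α) : IsTri (k * c * k⁻¹) := by
  obtain ⟨p, h1, h2, h3, h4, h5⟩ := hc
  have hk : ∀ z, (k * c * k⁻¹) (k z) = k (c z) := fun z => by simp [Perm.mul_apply]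
  refine ⟨k p, ?_, ?_, ?_, ?_, fun y a e f => ?_⟩
  · rw [hk]; exact k.injective.ne h1
  · rw [hk, hk]; exact k.injective.ne h2
  · rw [hk, hk]; exact k.injective.ne h3
  · rw [hk, hk, hk, h4]
  · obtain ⟨z, rfl⟩ := k.surjective y
    rw [hk] at e f ⊢
    rw [hk] at f
    rw [h5 z (fun h => a (h ▸ rfl)) (fun h => e (h ▸ rfl)) (fun h => f (h ▸ rfl))]

theorem IsTri.moved (hc : IsTri c) {p y : α} (hp : c p ≠ p) (hy : c y ≠ y) :
    y = p ∨ y = c p ∨ y = c (c p) := by
  by_contra h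
  push Not at h
  exact hy ((hc.at hp).2.2.2 y h.1 h.2.1 h.2.2)

/-- An element normalised into the subgroup which fixes the fixed points of `c` is trivial. -/
theorem IsTri.fix_trivial (hc : IsTri c) (h3 : ¬ 3 ∣ Nat.card H) {k : Perm α} (hk : k ∈ H)
    (hn : ∀ h ∈ H, c * h * c⁻¹ ∈ H) (hfix : ∀ y, c y = y → k y = y) : k = 1 := by
  obtain ⟨p, hp, -⟩ := id hc
  have hpre : ∀ y, c y ≠ y → c (k⁻¹ y) ≠ k⁻¹ y := fun y hy h => hy (by
    have := hfix _ h
    rw [show k (k⁻¹ y) = y from k.apply_symm_apply y] at this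
    rwa [← this] at h)
  have hpost : ∀ y, c y ≠ y → c (k y) ≠ k y := fun y hy h => hy (by
    have := k.injective (hfix _ h)
    rwa [this] at h)
  have hd := hc.conj k
  have hval : ∀ y, (k * c * k⁻¹) y = k (c (k⁻¹ y)) := fun y => rfl
  have hmoved : ∀ y, c y ≠ y → (k * c * k⁻¹) y ≠ y ∧ c ((k * c * k⁻¹) y) ≠ (k * c * k⁻¹) y :=
    fun y hy => by
      have h1 := hpre y hy
      refine ⟨fun h => h1 (k.injective (by rw [← hval, h]; exact (k.apply_symm_apply y).symm)), ?_⟩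
      exact hpost _ fun h => h1 (c.injective h)
  have hmem : c * (k * c * k⁻¹)⁻¹ ∈ H := by
    rw [show c * (k * c * k⁻¹)⁻¹ = (c * k * c⁻¹) * k⁻¹ by group]
    exact H.mul_mem (hn k hk) (H.inv_mem hk)
  generalize hdef : k * c * k⁻¹ = d at hd hmoved hmem
  obtain ⟨cA, cB, cC, cF⟩ := hc.at hp
  obtain ⟨dA, dB, dC, dF⟩ := hd.at (hmoved p hp).1
  have hdc : c = d := by
    rcases hc.moved hp (hmoved p hp).2 with h | h | h
    · exact absurd h (hmoved p hp).1
    · exact hc.eq_of_agree hd h3 hmem hp h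
    · have h2 : d (d p) = c p := by
        rcases hc.moved hp (hmoved _ (hmoved p hp).2).2 with h' | h' | h'
        · exact absurd h' dA
        · exact h'
        · exact absurd (h'.trans h.symm) dB
      refine mul_inv_eq_one.mp (eq_one_of_cube h3 hmem fun y => ?_)
      have hv : ∀ z, (c * d⁻¹) z = c (d (d z)) := fun z => by rw [Perm.mul_apply, hd.inv_apply]
      simp only [hv]
      rw [h] at h2 dB dC dF
      rw [h2] at dC dF
      rcases em (y = p) with rfl | e1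
      · simp only [h, h2, cC, dC]
      rcases em (y = c p) with rfl | e2
      · simp only [h, h2, cC, dC]
      rcases em (y = c (c p)) with rfl | e3
      · simp only [h, h2, cC, dC]
      simp only [cF y e1 e2 e3, dF y e1 e3 e2]
  have hcomm : ∀ y, k (c y) = c (k y) := fun y => by
    have := Equiv.ext_iff.mp (hdef.trans hdc.symm) (k y)
    rwa [Perm.mul_apply, Perm.mul_apply, show k⁻¹ (k y) = y from k.symm_apply_apply y] at this
  refine eq_one_of_cube h3 hk fun y => ?_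
  rcases eq_or_ne (c y) y with h | h
  · simp only [hfix y h]
  obtain ⟨-, -, yC, -⟩ := hc.at h
  rcases hc.moved h (hpost y h) with h' | h' | h'
  · simp only [h']
  · simp only [h', hcomm, yC]
  · simp only [h', hcomm, yC]

/-- At most one point outside `c` is moved by the related 3-cycles. -/
theorem IsTri.outside_unique {e : Perm α} (hc : IsTri c) (hd : IsTri d) (he : IsTri e)
    (h3 : ¬ 3 ∣ Nat.card H) (hcd : c * d⁻¹ ∈ H ∧ c * d * c⁻¹ * d⁻¹ ∈ H)
    (hce : c * e⁻¹ ∈ H ∧ c * e * c⁻¹ * e⁻¹ ∈ H) (hde : d * e⁻¹ ∈ H ∧ d * e * d⁻¹ * e⁻¹ ∈ H)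
    {x y : α} (hx : c x = x) (hdx : d x ≠ x) (hy : c y = y) (hey : e y ≠ y) : x = y := by
  have key : ∀ {f : Perm α} {w : α}, IsTri f → c * f⁻¹ ∈ H → c * f * c⁻¹ * f⁻¹ ∈ H →
      c w = w → f w ≠ w →
        c (f w) ≠ f w ∧ c (f (f w)) ≠ f (f w) ∧ c (f (f w)) = f w := by
    intro f w hf h1 h2 hw hfw
    obtain ⟨fA, fB, fC, fF⟩ := hf.at hfw
    obtain ⟨q, hq, hq'⟩ := hc.exists_common hf h3 h1
    obtain ⟨q', hne, hq1, hq1'⟩ := hc.two_common hf h3 h2 hq hq'
    have hm : ∀ q, c q ≠ q → f q ≠ q → q = f w ∨ q = f (f w) := fun q a a' =>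
      (hf.moved hfw a').resolve_left fun h => a (h ▸ hw)
    have both : c (f w) ≠ f w ∧ c (f (f w)) ≠ f (f w) := by
      rcases hm q hq hq' with rfl | rfl <;> rcases hm q' hq1 hq1' with rfl | rfl
      · exact absurd rfl hne
      · exact ⟨hq, hq1⟩
      · exact ⟨hq1, hq⟩
      · exact absurd rfl hne
    refine ⟨both.1, both.2, ?_⟩
    rcases hc.moved both.1 both.2 with h | h | h
    · exact absurd h fB
    · exact absurd hw fun _ => hfw (hc.eq_of_agree hf h3 h1 both.1 h ▸ hw)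
    · conv_lhs => rw [h]
      exact (hc.at both.1).2.2.1
  obtain ⟨d1, d2, d3⟩ := key hd hcd.1 hcd.2 hx hdx
  obtain ⟨e1, e2, e3⟩ := key he hce.1 hce.2 hy hey
  obtain ⟨dA, dB, dC, dF⟩ := hd.at hdx
  obtain ⟨eA, eB, eC, eF⟩ := he.at hey
  by_contra hne
  have ex : e x = x := eF x hne (fun h => e1 (h ▸ hx)) (fun h => e2 (h ▸ hx))
  obtain ⟨q, hq, hq'⟩ := hd.exists_common he h3 hde.1
  obtain ⟨q', hqq, hq1, hq1'⟩ := hd.two_common he h3 hde.2 hq hq'
  have hm : ∀ q, d q ≠ q → e q ≠ q → q = d x ∨ q = d (d x) := fun q a a' =>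
    (hd.moved hdx a).resolve_left fun h => a' (h ▸ ex)
  have dy : d y = y := dF y (Ne.symm hne) (fun h => d1 (h ▸ hy)) (fun h => d2 (h ▸ hy))
  have hn : ∀ q, d q ≠ q → e q ≠ q → q = e y ∨ q = e (e y) := fun q a a' =>
    (he.moved hey a').resolve_left fun h => a (h ▸ dy)
  have both : e (d x) ≠ d x ∧ e (d (d x)) ≠ d (d x) ∧ d (d x) ≠ x ∧
      (d x = e y ∨ d x = e (e y)) ∧ (d (d x) = e y ∨ d (d x) = e (e y)) := by
    rcases hm q hq hq' with rfl | rfl <;> rcases hm q' hq1 hq1' with rfl | rfl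
    · exact absurd rfl hqq
    · exact ⟨hq', hq1', dA, hn _ hq hq', hn _ hq1 hq1'⟩
    · exact ⟨hq1', hq', dA, hn _ hq1 hq1', hn _ hq hq'⟩
    · exact absurd rfl hqq
  obtain ⟨-, -, -, hA, hB⟩ := both
  rcases hA with hA | hA <;> rcases hB with hB | hB
  · exact dB (hB.trans hA.symm)
  · have hde' := hd.eq_of_agree he h3 hde.1 (p := d x) dB (by rw [hB, hA])
    exact hey (hde' ▸ dy)
  · rw [hB, hA] at d3
    exact (hc.at e2).1 (by rw [e3, d3])
  · exact dB (hB.trans hA.symm)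

end Cfsg.Agent.Grp.CubicThree
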