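import Mathlib
import Cfsg.Agent.Lib.Grp.CubicThree.Setup
import Cfsg.Agent.Lib.Grp.CubicThree.Cycles

/-!
The monomial case: the lines are three or four in number and the shape of the group follows.
-/

set_option autoImplicit false

namespace Cfsg.Agent.Grp.CubicThree

open Module Equiv

variable {Γ V : Type*} [Group Γ] [AddCommGroup V] [Module (ZMod 3) V] [Finite V]
variable {σ : Γ →* Module.End (ZMod 3) V} {b : Γ} {R : Subgroup Γ} {a : Γ}
variable {Ω : Type*} [Fintype Ω] [DecidableEq Ω] {π : Γ →* Perm Ω} {e : Basis Ω (ZMod 3) V}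

/-- The group permutes the lines of a basis. -/
structure Lines (σ : Γ →* Module.End (ZMod 3) V) (b : Γ) (R : Subgroup Γ) (π : Γ →* Perm Ω)
    (e : Basis Ω (ZMod 3) V) : Prop where
  line : ∀ g y, ∃ c : ZMod 3, σ g (e y) = c • e (π g y)
  tri : IsTri (π b)
  trans : ∀ y y', ∃ g, π g y = y'
  nonscalar : ∃ d ∈ R, π d = 1 ∧ ¬ Scalar σ d
  cent : ∀ y ∈ R, (∀ r ∈ R, y * r = r * y) → π y = 1

variable (σ e) in
/-- Diagonal coefficient. -/
noncomputable def coef (g : Γ) (y : Ω) : ZMod 3 := e.repr (σ g (e y)) y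

namespace Lines

variable (hL : Lines σ b R π e)
include hL

theorem app {g : Γ} (hg : π g = 1) (y : Ω) : σ g (e y) = coef σ e g y • e y := by
  obtain ⟨c, hc⟩ := hL.line g y
  rw [hg, Perm.one_apply] at hc
  simp [coef, hc]

theorem coef_mul {g h : Γ} (hg : π g = 1) (hh : π h = 1) (y : Ω) :
    coef σ e (g * h) y = coef σ e g y * coef σ e h y := by
  conv_lhs => rw [coef, apply_mul, hL.app hh, map_smul, hL.app hg, smul_smul]
  simp [mul_comm]

theorem coef_one (y : Ω) : coef σ e (1 : Γ) y = 1 := by simp [coef]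

theorem coef_sign {g : Γ} (hg : π g = 1) (y : Ω) : coef σ e g y = 1 ∨ coef σ e g y = -1 := by
  refine (zmod3_cases _).resolve_left fun h => ?_
  have := hL.app hg y
  rw [h, zero_smul] at this
  exact e.ne_zero y (by rw [← inv_apply_apply (σ := σ) g (e y), this, map_zero])

theorem coef_sq {g : Γ} (hg : π g = 1) (y : Ω) : coef σ e g y * coef σ e g y = 1 := by
  rcases hL.coef_sign hg y with h | h <;> rw [h] <;> decide

theorem ext_coef (hC : Cubic σ b R) {g h : Γ} (hg : π g = 1) (hh : π h = 1)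
    (H : ∀ y, coef σ e g y = coef σ e h y) : g = h :=
  hC.inj (e.ext fun y => by rw [hL.app hg, hL.app hh, H])

theorem sq_one (hC : Cubic σ b R) {g : Γ} (hg : π g = 1) : g * g = 1 :=
  hL.ext_coef hC (by rw [map_mul, hg, one_mul]) (map_one π) fun y => by
    rw [hL.coef_mul hg hg, hL.coef_sq hg, hL.coef_one]

theorem diag_comm (hC : Cubic σ b R) {g h : Γ} (hg : π g = 1) (hh : π h = 1) : g * h = h * g :=
  hL.ext_coef hC (by rw [map_mul, hg, hh, one_mul]) (by rw [map_mul, hg, hh, one_mul]) fun y => by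
    rw [hL.coef_mul hg hh, hL.coef_mul hh hg, mul_comm]

theorem coef_conj {g : Γ} (r : Γ) (hg : π g = 1) (y : Ω) :
    coef σ e (r * g * r⁻¹) (π r y) = coef σ e g y := by
  obtain ⟨c, hc⟩ := hL.line r y
  have hg' : π (r * g * r⁻¹) = 1 := by rw [map_mul, map_mul, hg, mul_one, ← map_mul, mul_inv_cancel,
    map_one]
  have h1 : σ (r * g * r⁻¹) (σ r (e y)) = σ r (σ g (e y)) := by
    rw [← apply_mul, inv_mul_cancel_right, apply_mul]
  rw [hL.app hg, map_smul, hc, map_smul, hL.app hg', smul_smul, smul_smul] at h1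
  have hc0 : c ≠ 0 := fun h => e.ne_zero y (by
    rw [← inv_apply_apply (σ := σ) r (e y), hc, h, zero_smul, map_zero])
  have h2 := congrArg (fun v => e.repr v (π r y)) h1
  simp only [map_smul, Finsupp.smul_apply, Basis.repr_self, Finsupp.single_eq_same,
    smul_eq_mul, mul_one] at h2
  exact mul_left_cancel₀ hc0 (h2.trans (mul_comm _ _))

theorem scalar_of_const {g : Γ} (hg : π g = 1) (y₀ : Ω)
    (H : ∀ y, coef σ e g y = coef σ e g y₀) : Scalar σ g := by
  rcases hL.coef_sign hg y₀ with h | h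
  · exact Or.inl (e.ext fun y => by rw [hL.app hg, H, h, one_smul]; rfl)
  · exact Or.inr (e.ext fun y => by rw [hL.app hg, H, h, neg_smul, one_smul]; rfl)

theorem prod_one (hC : Cubic σ b R) {g : Γ} (hg : g ∈ R) (hπ : π g = 1) :
    ∏ y, coef σ e g y = 1 := by
  let f : Γ →* ZMod 3 := LinearMap.det.comp σ
  have hker : R ≤ f.ker := hC.gen.trans ((Subgroup.closure_le _).mpr fun x ⟨r, _, hx⟩ => by
    subst hx
    rw [SetLike.mem_coe, MonoidHom.mem_ker]
    calc f (r * b * r⁻¹ * b⁻¹) = f r * f r⁻¹ * (f b * f b⁻¹) := by simp only [map_mul]; ring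
      _ = 1 := by rw [← map_mul, ← map_mul, mul_inv_cancel, mul_inv_cancel, map_one, one_mul])
  have h1 : LinearMap.det (σ g) = 1 := MonoidHom.mem_ker.mp (hker hg)
  rw [← LinearMap.det_toMatrix e] at h1
  have hM : LinearMap.toMatrix e e (σ g) = Matrix.diagonal (coef σ e g) := by
    ext i j
    rw [LinearMap.toMatrix_apply, hL.app hπ, map_smul, Finsupp.smul_apply, Basis.repr_self,
      Finsupp.single_apply, Matrix.diagonal_apply]
    rcases eq_or_ne i j with rfl | hne
    · simp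
    · simp [hne, hne.symm]
  rwa [hM, Matrix.det_diagonal] at h1

theorem perm_three (hC : Cubic σ b R) : ¬ 3 ∣ Nat.card (R.map π) :=
  fun h => hC.odd3 (h.trans (Subgroup.card_dvd_of_surjective _ (π.subgroupMap_surjective R)))

omit hL in
theorem conj_form (hC : Cubic σ b R) (g : Γ) : ∃ u ∈ R, g * b * g⁻¹ = u * b := by
  obtain ⟨r, hr, i, rfl⟩ := hC.decomp g
  refine ⟨r * (b * r⁻¹ * b⁻¹), R.mul_mem hr (hC.normal.conj_mem _ (R.inv_mem hr) b), ?_⟩
  calc r * b ^ i * b * (r * b ^ i)⁻¹ = r * (b ^ i * b * (b ^ i)⁻¹) * r⁻¹ := by group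
    _ = r * b * r⁻¹ := by rw [← pow_succ, pow_succ', mul_inv_cancel_right]
    _ = _ := by group

omit hL in
theorem conj_mem (hC : Cubic σ b R) : ∀ h ∈ R.map π, π b * h * (π b)⁻¹ ∈ R.map π := by
  rintro _ ⟨r, hr, rfl⟩
  exact ⟨b * r * b⁻¹, hC.normal.conj_mem r hr b, by simp⟩

theorem fixed_unique (hC : Cubic σ b R) {x y : Ω} (hx : π b x = x) (hy : π b y = y) : x = y := by
  have hmv : ∀ x, ∃ g : Γ, π (g * b * g⁻¹) x ≠ x := by
    intro x
    by_contra hcon
    push Not at hcon
    obtain ⟨p, hp, -⟩ := hL.tri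
    obtain ⟨g, hg⟩ := hL.trans p x
    apply hp
    have := hcon g
    rw [← hg, map_mul, map_mul, Perm.mul_apply, Perm.mul_apply, map_inv,
      show (π g)⁻¹ (π g p) = p from (π g).symm_apply_apply p] at this
    exact (π g).injective this
  have hin : ∀ g g' : Γ, π (g * b * g⁻¹) * (π (g' * b * g'⁻¹))⁻¹ ∈ R.map π ∧
      π (g * b * g⁻¹) * π (g' * b * g'⁻¹) * (π (g * b * g⁻¹))⁻¹ * (π (g' * b * g'⁻¹))⁻¹ ∈
        R.map π := by
    intro g g'
    obtain ⟨u, hu, eu⟩ := conj_form hC g
    obtain ⟨v, hv, ev⟩ := conj_form hC g'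
    rw [eu, ev]
    refine ⟨⟨u * v⁻¹, R.mul_mem hu (R.inv_mem hv), ?_⟩,
      ⟨u * (b * v * b⁻¹) * (b * u⁻¹ * b⁻¹) * v⁻¹,
        R.mul_mem (R.mul_mem (R.mul_mem hu (hC.normal.conj_mem v hv b))
          (hC.normal.conj_mem _ (R.inv_mem hu) b)) (R.inv_mem hv), ?_⟩⟩ <;>
      simp only [map_mul, map_inv, mul_inv_rev] <;> group
  have htri : ∀ g : Γ, IsTri (π (g * b * g⁻¹)) := fun g => by
    rw [map_mul, map_mul, map_inv]; exact hL.tri.conj _
  obtain ⟨g, hg⟩ := hmv x
  obtain ⟨g', hg'⟩ := hmv y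
  have h1 := hin 1 g
  have h2 := hin 1 g'
  rw [show (1 : Γ) * b * 1⁻¹ = b by group] at h1 h2
  exact hL.tri.outside_unique (htri g) (htri g') (hL.perm_three hC) h1 h2 (hin g g') hx hg hy hg'

theorem shape_three (hC : Cubic σ b R) (h4 : Four b R a) (hall : ∀ y, π b y ≠ y) : Shape R := by
  have hπ : ∀ r ∈ R, π r = 1 := fun r hr =>
    hL.tri.fix_trivial (hL.perm_three hC) (Subgroup.mem_map_of_mem π hr) (conj_mem hC)
      fun y hy => absurd hy (hall y)
  refine Or.inl ⟨fun x hx y hy => hL.diag_comm hC (hπ x hx) (hπ y hy),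
    fun x hx => hL.sq_one hC (hπ x hx), le_antisymm ?_ ?_⟩
  · obtain ⟨p, hp, hp2, hp3, -, hpF⟩ := hL.tri
    set q := π b p with hq
    set s := π b q with hs
    have huniv : (Finset.univ : Finset Ω) = {p, q, s} := Finset.ext fun y => by
      simp only [Finset.mem_univ, Finset.mem_insert, Finset.mem_singleton, true_iff]
      by_contra h
      push Not at h
      exact hall y (hpF y h.1 h.2.1 h.2.2)
    have hdet : ∀ r : R, coef σ e (r : Γ) s = coef σ e (r : Γ) p * coef σ e (r : Γ) q := by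
      intro r
      have h := hL.prod_one hC r.2 (hπ r r.2)
      rw [huniv, Finset.prod_insert (by simp [hp.symm, hp2.symm]),
        Finset.prod_pair hp3.symm] at h
      rcases hL.coef_sign (hπ r r.2) p with h1 | h1 <;>
      rcases hL.coef_sign (hπ r r.2) q with h2 | h2 <;>
      rcases hL.coef_sign (hπ r r.2) s with h3 | h3 <;>
      rw [h1, h2, h3] at h ⊢ <;> first | decide | exact absurd h (by decide)
    refine le_of_le_of_eq (Nat.card_le_card_of_injective
      (fun r : R => (decide (coef σ e (r : Γ) p = 1), decide (coef σ e (r : Γ) q = 1)))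
      fun r r' h => ?_) (by simp)
    rw [Prod.mk.injEq, decide_eq_decide, decide_eq_decide] at h
    have hk : ∀ y, (coef σ e (r : Γ) y = 1 ↔ coef σ e (r' : Γ) y = 1) →
        coef σ e (r : Γ) y = coef σ e (r' : Γ) y := fun y hy => by
      rcases hL.coef_sign (hπ r r.2) y with h1 | h1 <;>
      rcases hL.coef_sign (hπ r' r'.2) y with h2 | h2 <;> rw [h1, h2] at hy ⊢
      · exact absurd (hy.mp rfl) (by decide)
      · exact absurd (hy.mpr rfl) (by decide)
    refine Subtype.ext (hL.ext_coef hC (hπ r r.2) (hπ r' r'.2) fun y => ?_)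
    have hy : y ∈ ({p, q, s} : Finset Ω) := huniv ▸ Finset.mem_univ y
    simp only [Finset.mem_insert, Finset.mem_singleton] at hy
    rcases hy with rfl | rfl | rfl
    · exact hk _ h.1
    · exact hk _ h.2
    · rw [hdet r, hdet r', hk p h.1, hk q h.2]
  · haveI : Finite R := Finite.of_injective (fun r : R => (σ r : V → V))
      (DFunLike.coe_injective.comp (hC.inj.comp Subtype.val_injective))
    classical
    haveI := Fintype.ofFinite R
    rw [Nat.card_eq_fintype_card]
    have ha' : b * a * b⁻¹ ∈ R := hC.normal.conj_mem a h4.mem b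
    have hne : b * a * b⁻¹ ≠ a := fun h => by
      have h' := h4.prod
      rw [h, h4.sq, one_mul] at h'
      exact h4.ne (by simpa using h')
    have hne' : b * a * b⁻¹ ≠ 1 := fun h => h4.ne (by simpa using h)
    have hne'' : a * (b * a * b⁻¹) ≠ 1 := fun h =>
      hne (mul_left_cancel (h.trans h4.sq.symm))
    refine le_of_eq_of_le ?_ (Finset.card_le_univ
      ({1, ⟨a, h4.mem⟩, ⟨b * a * b⁻¹, ha'⟩, ⟨a * (b * a * b⁻¹), R.mul_mem h4.mem ha'⟩} : Finset R))
    rw [Finset.card_insert_of_notMem, Finset.card_insert_of_notMem, Finset.card_pair]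
    · simp [Subtype.ext_iff, h4.ne]
    · simp only [Finset.mem_insert, Finset.mem_singleton, Subtype.ext_iff, not_or]
      exact ⟨fun h => hne h.symm, fun h => hne' (mul_left_cancel (h.symm.trans (mul_one a).symm))⟩
    · simp only [Finset.mem_insert, Finset.mem_singleton, Subtype.ext_iff, not_or]
      exact ⟨fun h => h4.ne h.symm, fun h => hne' h.symm, fun h => hne'' h.symm⟩

theorem shape_four (hC : Cubic σ b R) {x : Ω} (hx : π b x = x) : Shape R := by
  classical
  haveI : Finite Γ :=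
    Finite.of_injective (fun g => (σ g : V → V)) (DFunLike.coe_injective.comp hC.inj)
  have hfix : ∀ y, π b y = y → y = x := fun y hy => hL.fixed_unique hC hy hx
  obtain ⟨p₀, hp₀, -⟩ := id hL.tri
  obtain ⟨cA, cB, cC, cF⟩ := hL.tri.at hp₀
  have hbx : ∀ i : ℕ, π (b ^ i) x = x := fun i => by
    induction i with
    | zero => simp
    | succ i ih => rw [pow_succ', map_mul, Perm.mul_apply, ih, hx]
  have hreg : ∀ y, ∃ r ∈ R, π r x = y := fun y => by
    obtain ⟨g, hg⟩ := hL.trans x y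
    obtain ⟨r, hr, i, rfl⟩ := hC.decomp g
    rw [map_mul, Perm.mul_apply, hbx] at hg
    exact ⟨r, hr, hg⟩
  have huniq : ∀ r ∈ R, ∀ r' ∈ R, π r x = π r' x → π r = π r' := fun r hr r' hr' h => by
    have hmem : r'⁻¹ * r ∈ R := R.mul_mem (R.inv_mem hr') hr
    have h1 : π (r'⁻¹ * r) = 1 :=
      hL.tri.fix_trivial (hL.perm_three hC) (Subgroup.mem_map_of_mem π hmem) (conj_mem hC)
        fun y hy => by
          rw [hfix y hy, map_mul, Perm.mul_apply, h, map_inv]
          exact (π r').symm_apply_apply x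
    rw [map_mul, map_inv] at h1
    exact (inv_mul_eq_one.mp h1).symm
  -- card of the permutation group
  have hH : Nat.card (R.map π) = Nat.card Ω := Nat.card_eq_of_bijective (fun h => h.1 x)
    ⟨fun ⟨_, r, hr, hre⟩ ⟨_, r', hr', hre'⟩ h => Subtype.ext (by
      subst hre; subst hre'; exact huniq r hr r' hr' h), fun y => by
      obtain ⟨r, hr, hry⟩ := hreg y
      exact ⟨⟨π r, r, hr, rfl⟩, hry⟩⟩
  have hpx : ∀ y, π b y ≠ y → y ≠ x := fun y hy h => hy (h ▸ hx)
  have h01 : π b p₀ ≠ p₀ := hp₀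
  have h12 : π b (π b p₀) ≠ π b p₀ := cB
  have h20 : π b (π b p₀) ≠ p₀ := cA
  have hx0 : p₀ ≠ x := hpx _ h01
  have hx1 : π b p₀ ≠ x := hpx _ h12
  have hx2 : π b (π b p₀) ≠ x := hpx _ (by rw [cC]; exact Ne.symm h20)
  have huniv₀ : (Finset.univ : Finset Ω) = {x, p₀, π b p₀, π b (π b p₀)} := Finset.ext fun y => by
    simp only [Finset.mem_univ, Finset.mem_insert, Finset.mem_singleton, true_iff]
    by_contra h
    push Not at h
    exact h.1 (hfix y (cF y h.2.1 h.2.2.1 h.2.2.2))
  have hΩ : Nat.card Ω = 4 := by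
    rw [Nat.card_eq_fintype_card, ← Finset.card_univ, huniv₀, Finset.card_insert_of_notMem,
      Finset.card_insert_of_notMem, Finset.card_pair (Ne.symm h12)] <;>
      simp [Ne.symm hx0, Ne.symm hx1, Ne.symm hx2, Ne.symm h01, Ne.symm h20]
  -- exponent two
  have hsq : ∀ r ∈ R, π r * π r = 1 := by
    intro r hr
    by_contra hne
    have hr1 : π r ≠ 1 := fun h => hne (by rw [h, one_mul])
    have hmv : π b (π r x) ≠ π r x := fun h => hr1 (by
      rw [← map_one π]
      exact huniq r hr 1 R.one_mem (by rw [map_one, Perm.one_apply, hfix _ h]))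
    have hp4 : π r * π r * (π r * π r) = 1 := by
      have h := pow_card_eq_one' (x := (⟨π r, r, hr, rfl⟩ : R.map π))
      rw [hH, hΩ] at h
      have h' := congrArg Subtype.val h
      simp only [SubgroupClass.coe_pow, OneMemClass.coe_one] at h'
      rw [← h']; simp [pow_succ, mul_assoc]
    have hr2x : π (r * r) x ≠ x := fun h => hne (by
      rw [← map_mul, ← map_one π]
      exact huniq _ (R.mul_mem hr hr) 1 R.one_mem (by rw [h, map_one]; rfl))
    have hr2r : π (r * r) x ≠ π r x := fun h => hr1 (by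
      have := huniq _ (R.mul_mem hr hr) r hr h
      rwa [map_mul, mul_eq_left] at this)
    have hconj : ∀ s, π (b * s * b⁻¹) x = π b (π s x) := fun s => by
      rw [map_mul, map_mul, Perm.mul_apply, Perm.mul_apply, map_inv,
        show (π b)⁻¹ x = x from (π b).injective (((π b).apply_symm_apply x).trans hx.symm)]
    obtain ⟨rA, rB, rC, rF⟩ := hL.tri.at hmv
    have hs := hC.normal.conj_mem r hr b
    have hmv2 : π b (π (r * r) x) ≠ π (r * r) x := fun h => hr2x (hfix _ h)
    have hee : ∀ {u : Perm Ω}, π r = π b * u * (π b)⁻¹ → u = (π b)⁻¹ * π r * π b := by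
      intro u hu; rw [hu]; group
    have hb3 : π b * π b * π b = 1 := by
      rw [← map_mul, ← map_mul, ← pow_two, ← pow_succ, hC.b3, map_one]
    rcases hL.tri.moved hmv hmv2 with h | h | h
    · exact hr2r h
    · -- the square is the conjugate
      have h1 : π r * π r = π b * π r * (π b)⁻¹ := by
        have := huniq _ (R.mul_mem hr hr) _ hs (h.trans (hconj r).symm)
        simpa using this
      have h2 : π b * π b * π r * (π b)⁻¹ * (π b)⁻¹ = 1 := by
        rw [← hp4, h1]
        calc π b * π b * π r * (π b)⁻¹ * (π b)⁻¹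
            = π b * (π b * π r * (π b)⁻¹) * (π b)⁻¹ := by group
          _ = π b * (π r * π r) * (π b)⁻¹ := by rw [h1]
          _ = _ := by group
      exact hr1 (by
        calc π r = (π b * π b)⁻¹ * (π b * π b * π r * (π b)⁻¹ * (π b)⁻¹) * (π b * π b) := by group
          _ = 1 := by rw [h2]; group)
    · have h1 : π r * π r = π b * π b * π r * (π b)⁻¹ * (π b)⁻¹ := by
        have := huniq _ (R.mul_mem hr hr) _ (hC.normal.conj_mem _ hs b)
          (h.trans ((congrArg _ (hconj r).symm).trans (hconj _).symm))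
        simpa [mul_assoc] using this
      have e2 : π r = π b * (π r * π r) * (π b)⁻¹ := by
        rw [h1]
        calc π r = (π b * π b * π b) * π r * (π b * π b * π b)⁻¹ := by rw [hb3]; simp
          _ = _ := by group
      have h2 : π b * π r * (π b)⁻¹ = 1 := by
        calc π b * π r * (π b)⁻¹ = π b * (π b * (π r * π r) * (π b)⁻¹) * (π b)⁻¹ := by rw [← e2]
          _ = π b * π b * (π r * π r) * (π b)⁻¹ * (π b)⁻¹ := by group
          _ = π b * π b * π r * (π b)⁻¹ * (π b)⁻¹ * (π b * π b * π r * (π b)⁻¹ * (π b)⁻¹) := by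
            group
          _ = 1 := by rw [← h1, hp4]
      exact hr1 (by simpa using h2)
  have hcomm : ∀ r ∈ R, ∀ s ∈ R, π r * π s = π s * π r := fun r hr s hs => by
    have h := hsq _ (R.mul_mem hr hs)
    rw [map_mul] at h
    calc π r * π s = (π r * π s)⁻¹ := eq_inv_of_mul_eq_one_left h
      _ = π s * π r := by
        rw [mul_inv_rev, inv_eq_of_mul_eq_one_right (hsq r hr),
          inv_eq_of_mul_eq_one_right (hsq s hs)]
  have hinD : ∀ r ∈ R, ∀ s ∈ R, π (r * s * r⁻¹ * s⁻¹) = 1 := fun r hr s hs => by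
    simp [hcomm r hr s hs]
  have hconjD : ∀ {d : Γ} (g : Γ), d ∈ R → π d = 1 → g * d * g⁻¹ ∈ R ∧ π (g * d * g⁻¹) = 1 :=
    fun g hd hd1 => ⟨hC.normal.conj_mem _ hd g, by simp [hd1]⟩
  -- a sign pattern
  obtain ⟨d, hd, hd1, hdns⟩ := hL.nonscalar
  obtain ⟨y, hy⟩ : ∃ y, coef σ e d y = -1 := by
    by_contra h
    push Not at h
    exact hdns (hL.scalar_of_const hd1 x fun y => by
      rw [(hL.coef_sign hd1 y).resolve_right (h y), (hL.coef_sign hd1 x).resolve_right (h x)])
  obtain ⟨r, hr, hry⟩ := hreg y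
  obtain ⟨hd', hd1'⟩ := hconjD r⁻¹ hd hd1
  have hdx : coef σ e (r⁻¹ * d * r⁻¹⁻¹) x = -1 := by
    have := hL.coef_conj r⁻¹ hd1 y
    rwa [show π r⁻¹ y = x by rw [← hry, map_inv]; exact (π r).symm_apply_apply x, hy] at this
  have hns' : ¬ Scalar σ (r⁻¹ * d * r⁻¹⁻¹) := fun h => hdns (by
    have e1 : d = r⁻¹ * d * r⁻¹⁻¹ := by
      calc d = r * (r⁻¹ * d * r⁻¹⁻¹) * r⁻¹ := by group
        _ = _ := by rw [← h.comm hC r, mul_inv_cancel_right]
    rw [e1]; exact h)
  generalize r⁻¹ * d * r⁻¹⁻¹ = d' at hd' hd1' hdx hns'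
  obtain ⟨p, hp, u, hu, hu1, hux, hup, huq, hus⟩ : ∃ p, π b p ≠ p ∧ ∃ u ∈ R, π u = 1 ∧
      coef σ e u x = -1 ∧ coef σ e u p = -1 ∧ coef σ e u (π b p) = 1 ∧
      coef σ e u (π b (π b p)) = 1 := by
    have hprod := hL.prod_one hC hd' hd1'
    rw [huniv₀, Finset.prod_insert (by simp [Ne.symm hx0, Ne.symm hx1, Ne.symm hx2]),
      Finset.prod_insert (by simp [Ne.symm h01, Ne.symm h20]),
      Finset.prod_pair (Ne.symm h12)] at hprod
    rcases hL.coef_sign hd1' p₀ with g0 | g0 <;>
    rcases hL.coef_sign hd1' (π b p₀) with g1 | g1 <;>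
    rcases hL.coef_sign hd1' (π b (π b p₀)) with g2 | g2 <;>
    rw [hdx, g0, g1, g2] at hprod <;> try exact absurd hprod (by decide)
    · exact ⟨_, by rw [cC]; exact Ne.symm h20, d', hd', hd1', hdx, g2, by rw [cC]; exact g0,
        by rw [cC]; exact g1⟩
    · exact ⟨_, h12, d', hd', hd1', hdx, g1, g2, by rw [cC]; exact g0⟩
    · exact ⟨_, hp₀, d', hd', hd1', hdx, g0, g1, g2⟩
    · exact absurd (hL.scalar_of_const hd1' x fun y => by
        have hy : y ∈ ({x, p₀, π b p₀, π b (π b p₀)} : Finset Ω) := huniv₀ ▸ Finset.mem_univ y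
        simp only [Finset.mem_insert, Finset.mem_singleton] at hy
        rcases hy with rfl | rfl | rfl | rfl <;> simp only [hdx, g0, g1, g2]) hns'
  obtain ⟨pA, pB, pC, pF⟩ := hL.tri.at hp
  set q := π b p with hq
  set s := π b q with hs
  obtain ⟨hu', hu1'⟩ := hconjD b hu hu1
  obtain ⟨hu'', hu1''⟩ := hconjD b hu' hu1'
  have c1x : coef σ e (b * u * b⁻¹) x = -1 := by
    have := hL.coef_conj b hu1 x; rwa [hx, hux] at this
  have c2x : coef σ e (b * (b * u * b⁻¹) * b⁻¹) x = -1 := by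
    have := hL.coef_conj b hu1' x; rwa [hx, c1x] at this
  have c1q : coef σ e (b * u * b⁻¹) q = -1 := (hL.coef_conj b hu1 p).trans hup
  have c1s : coef σ e (b * u * b⁻¹) s = 1 := (hL.coef_conj b hu1 q).trans huq
  have c1p : coef σ e (b * u * b⁻¹) p = 1 := by
    have := hL.coef_conj b hu1 s; rwa [pC, hus] at this
  have c2s : coef σ e (b * (b * u * b⁻¹) * b⁻¹) s = -1 := (hL.coef_conj b hu1' q).trans c1q
  have c2q : coef σ e (b * (b * u * b⁻¹) * b⁻¹) q = 1 := (hL.coef_conj b hu1' p).trans c1p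
  have c2p : coef σ e (b * (b * u * b⁻¹) * b⁻¹) p = 1 := by
    have := hL.coef_conj b hu1' s; rwa [pC, c1s] at this
  generalize b * (b * u * b⁻¹) * b⁻¹ = w at hu'' hu1'' c2x c2p c2q c2s
  generalize b * u * b⁻¹ = v at hu' hu1' c1x c1p c1q c1s
  have hqs : q ≠ s := Ne.symm pB
  have hxp : x ≠ p := Ne.symm (hpx _ hp)
  have hxq : x ≠ q := Ne.symm (hpx _ pB)
  have hxs : x ≠ s := Ne.symm (hpx _ (by rw [pC]; exact Ne.symm pA))
  have huniv : (Finset.univ : Finset Ω) = {x, p, q, s} := Finset.ext fun y => by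
    simp only [Finset.mem_univ, Finset.mem_insert, Finset.mem_singleton, true_iff]
    by_contra h
    push Not at h
    exact h.1 (hfix y (pF y h.2.1 h.2.2.1 h.2.2.2))
  have hfour : ∀ y, y = x ∨ y = p ∨ y = q ∨ y = s := fun y => by
    have hy : y ∈ ({x, p, q, s} : Finset Ω) := huniv ▸ Finset.mem_univ y
    simpa using hy
  have hprod : ∀ g ∈ R, π g = 1 →
      coef σ e g x = coef σ e g p * coef σ e g q * coef σ e g s := fun g hg hg1 => by
    have h := hL.prod_one hC hg hg1
    rw [huniv, Finset.prod_insert (by simp [hxp, hxq, hxs]),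
      Finset.prod_insert (by simp [Ne.symm hp, Ne.symm pA, ← hq]), Finset.prod_pair hqs,
      ← mul_assoc (coef σ e g p)] at h
    have hne : coef σ e g p * coef σ e g q * coef σ e g s *
        (coef σ e g p * coef σ e g q * coef σ e g s) = 1 := by
      rcases hL.coef_sign hg1 p with h1 | h1 <;> rcases hL.coef_sign hg1 q with h2 | h2 <;>
      rcases hL.coef_sign hg1 s with h3 | h3 <;> rw [h1, h2, h3] <;> decide
    calc coef σ e g x = coef σ e g x * (_ * _) := (by rw [hne, mul_one])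
      _ = coef σ e g p * coef σ e g q * coef σ e g s := by rw [← mul_assoc, h, one_mul]
  let D := R ⊓ π.ker
  have hD : Nat.card D = 8 := by
    refine le_antisymm ?_ ?_
    · refine le_of_le_of_eq (Nat.card_le_card_of_injective (fun g : D =>
        (decide (coef σ e (g : Γ) p = 1), decide (coef σ e (g : Γ) q = 1),
          decide (coef σ e (g : Γ) s = 1))) fun g g' h => ?_) (by simp)
      simp only [Prod.mk.injEq, decide_eq_decide] at h
      have g1 : π (g : Γ) = 1 := g.2.2
      have g1' : π (g' : Γ) = 1 := g'.2.2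
      have hk : ∀ y, (coef σ e (g : Γ) y = 1 ↔ coef σ e (g' : Γ) y = 1) →
          coef σ e (g : Γ) y = coef σ e (g' : Γ) y := fun y hy => by
        rcases hL.coef_sign g1 y with h1 | h1 <;>
        rcases hL.coef_sign g1' y with h2 | h2 <;> rw [h1, h2] at hy ⊢
        · exact absurd (hy.mp rfl) (by decide)
        · exact absurd (hy.mpr rfl) (by decide)
      refine Subtype.ext (hL.ext_coef hC g1 g1' fun y => ?_)
      rcases hfour y with rfl | rfl | rfl | rfl
      · rw [hprod _ g.2.1 g1, hprod _ g'.2.1 g1', hk p h.1, hk q h.2.1, hk s h.2.2]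
      · exact hk _ h.1
      · exact hk _ h.2.1
      · exact hk _ h.2.2
    · let f : Bool × Bool × Bool → D := fun t =>
        (if t.1 then ⟨u, hu, hu1⟩ else 1) * (if t.2.1 then ⟨v, hu', hu1'⟩ else 1) *
          (if t.2.2 then ⟨w, hu'', hu1''⟩ else 1)
      refine le_of_eq_of_le (by simp) (Nat.card_le_card_of_injective f ?_)
      rintro ⟨i, j, k⟩ ⟨i', j', k'⟩ h
      have hval : ∀ y, (i j k : Bool) → coef σ e (f (i, j, k) : Γ) y =
          (if i then coef σ e u y else 1) * (if j then coef σ e v y else 1) *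
            (if k then coef σ e w y else 1) := by
        intro y i j k
        cases i <;> cases j <;> cases k <;>
          simp [f, hL.coef_one, hL.coef_mul, hu1, hu1', hu1'']
      have hy : ∀ y, coef σ e (f (i, j, k) : Γ) y = coef σ e (f (i', j', k') : Γ) y :=
        fun y => by rw [h]
      have e1 := hy p; have e2 := hy q; have e3 := hy s
      rw [hval, hval, hup, c1p, c2p] at e1
      rw [hval, hval, huq, c1q, c2q] at e2
      rw [hval, hval, hus, c1s, c2s] at e3
      revert e1 e2 e3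
      cases i <;> cases j <;> cases k <;> cases i' <;> cases j' <;> cases k' <;> decide
  have hR : Nat.card R = 32 := by
    let f : R →* Perm Ω := π.comp R.subtype
    have hk : Nat.card f.ker = 8 := by
      rw [← hD]
      exact Nat.card_congr
        { toFun := fun g => ⟨(g.1 : Γ), g.1.2, g.2⟩
          invFun := fun g => ⟨⟨g.1, g.2.1⟩, g.2.2⟩
          left_inv := fun g => rfl
          right_inv := fun g => rfl }
    have hrng : f.range = R.map π := by
      ext h; simp [f, Subgroup.mem_map]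
    rw [← f.ker.card_mul_index, Subgroup.index_ker, hk, hrng, hH, hΩ]
  -- the central involution
  let z := u * v * w
  have hz1 : π z = 1 := by simp [z, hu1, hu1', hu1'']
  have hzR : z ∈ R := R.mul_mem (R.mul_mem hu hu') hu''
  have hzc : ∀ y, coef σ e z y = -1 := fun y => by
    simp only [z]
    rw [hL.coef_mul (by rw [map_mul, hu1, hu1', one_mul]) hu1'', hL.coef_mul hu1 hu1']
    rcases hfour y with rfl | rfl | rfl | rfl <;>
      simp only [hux, hup, huq, hus, c1x, c1p, c1q, c1s, c2x, c2p, c2q, c2s] <;> decide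
  have hzs : σ z = -1 := e.ext fun y => by rw [hL.app hz1, hzc, neg_smul, one_smul]; rfl
  have hzne : z ≠ 1 := fun h => by
    have := hzc x
    rw [h, hL.coef_one] at this
    exact absurd this (by decide)
  have hsc : ∀ g, Scalar σ g → g = 1 ∨ g = z := fun g hg => by
    rcases hg with hg | hg
    · exact Or.inl (hC.inj (hg.trans (map_one σ).symm))
    · exact Or.inr (hC.inj (hg.trans hzs.symm))
  -- commutators with the diagonal part
  have hDc : ∀ g ∈ R, ∀ t ∈ D, Scalar σ (g * t * g⁻¹ * t⁻¹) := by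
    intro g hg t ⟨ht, ht1⟩
    replace ht1 : π t = 1 := ht1
    have hti : t⁻¹ = t := inv_eq_of_mul_eq_one_right (hL.sq_one hC ht1)
    obtain ⟨hgt, hgt1⟩ := hconjD g ht ht1
    have hmem : g * t * g⁻¹ * t⁻¹ ∈ R := R.mul_mem hgt (R.inv_mem ht)
    have hη : ∀ y, coef σ e (g * t * g⁻¹ * t⁻¹) (π g y) = coef σ e t y * coef σ e t (π g y) := by
      intro y
      rw [hti, hL.coef_mul hgt1 ht1, hL.coef_conj g ht1]
    have hgg : ∀ y, π g (π g y) = y := fun y => by rw [← Perm.mul_apply, hsq g hg]; rfl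
    rcases eq_or_ne (π g x) x with hgx | hgx
    · have hg1 : π g = 1 := (huniq g hg 1 R.one_mem (by rw [map_one]; exact hgx)).trans (map_one π)
      refine Or.inl ?_
      rw [show g * t * g⁻¹ = t by rw [hL.diag_comm hC hg1 ht1, mul_inv_cancel_right],
        mul_inv_cancel, map_one]
    refine hL.scalar_of_const (hinD g hg t ht) x fun y => ?_
    have hηx : coef σ e (g * t * g⁻¹ * t⁻¹) x = coef σ e t (π g x) * coef σ e t x := by
      have := hη (π g x); rwa [hgg] at this
    have hηy : coef σ e (g * t * g⁻¹ * t⁻¹) y = coef σ e t (π g y) * coef σ e t y := by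
      have := hη (π g y); rwa [hgg] at this
    rw [hηx, hηy]
    rcases eq_or_ne y x with rfl | hyx
    · rfl
    rcases eq_or_ne y (π g x) with rfl | hyg
    · rw [hgg, mul_comm]
    have hgy : π g y ≠ y := fun h => hgx (by
      obtain ⟨r', hr', rfl⟩ := hreg y
      apply (π r').injective
      rw [← Perm.mul_apply, hcomm r' hr' g hg, Perm.mul_apply]; exact h)
    have hgyx : π g y ≠ x := fun h => hyg (by rw [← h, hgg])
    have hgygx : π g y ≠ π g x := (π g).injective.ne hyx
    have hu4 : (Finset.univ : Finset Ω) = {x, π g x, y, π g y} := (Finset.eq_univ_of_card _ (by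
      rw [← Nat.card_eq_fintype_card, hΩ, Finset.card_insert_of_notMem,
        Finset.card_insert_of_notMem, Finset.card_pair (Ne.symm hgy)] <;>
        simp [Ne.symm hgx, Ne.symm hyx, Ne.symm hgyx, Ne.symm hyg, Ne.symm hgygx])).symm
    have hp4 := hL.prod_one hC ht ht1
    rw [hu4, Finset.prod_insert (by simp [Ne.symm hgx, Ne.symm hyx, Ne.symm hgyx]),
      Finset.prod_insert (by simp [Ne.symm hyg, Ne.symm hgygx]),
      Finset.prod_pair (Ne.symm hgy)] at hp4
    rcases hL.coef_sign ht1 x with h1 | h1 <;> rcases hL.coef_sign ht1 (π g x) with h2 | h2 <;>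
    rcases hL.coef_sign ht1 y with h3 | h3 <;> rcases hL.coef_sign ht1 (π g y) with h4 | h4 <;>
    rw [h1, h2, h3, h4] at hp4 ⊢ <;> first | decide | exact absurd hp4 (by decide)
  -- modulo scalars
  haveI : (scalars σ).Normal := ⟨fun t ht g => by
    rwa [← Scalar.comm hC ht g, mul_inv_cancel_right]⟩
  let qm := QuotientGroup.mk' (scalars σ)
  have hq1 : ∀ g, qm g = 1 ↔ Scalar σ g := fun g => QuotientGroup.eq_one_iff g
  have hqc : ∀ g h : Γ, Commute (qm g) (qm h) ↔ Scalar σ (g * h * g⁻¹ * h⁻¹) := fun g h => by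
    rw [← hq1, map_mul, map_mul, map_mul, map_inv, map_inv, commute_iff_eq,
      mul_inv_eq_one, mul_inv_eq_iff_eq_mul]
  obtain ⟨r₁, hr₁, hr₁x⟩ := hreg p
  have hbinv : (π b).symm x = x := (π b).injective (((π b).apply_symm_apply x).trans hx.symm)
  let r₂ := b * r₁ * b⁻¹
  let r₃ := b * r₂ * b⁻¹
  have hr₂ : r₂ ∈ R := hC.normal.conj_mem _ hr₁ b
  have hr₃ : r₃ ∈ R := hC.normal.conj_mem _ hr₂ b
  have hr₂x : π r₂ x = q := by simp [r₂, hbinv, hr₁x, hq]
  have hr₃x : π r₃ x = s := by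
    have : π r₃ x = π b (π r₂ x) := by simp [r₃, hbinv]
    rw [this, hr₂x]
  have hqD : ∀ g ∈ R, ∀ t ∈ D, Commute (qm g) (qm t) := fun g hg t ht =>
    (hqc g t).mpr (hDc g hg t ht)
  have h12x : π (r₁ * r₂) x = s := by
    have e1 : π (r₁ * r₂) x ≠ x := fun h => hqs.symm (by
      exfalso
      have : π r₁ (π r₁ x) = π r₁ (π r₂ x) := by
        rw [← Perm.mul_apply, hsq r₁ hr₁, Perm.one_apply]
        rw [map_mul, Perm.mul_apply] at h; exact h.symm
      rw [hr₁x, hr₂x] at this
      exact hp ((π r₁).injective (hr₁x ▸ this)).symm)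
    have e2 : π (r₁ * r₂) x ≠ p := fun h => by
      rw [map_mul, Perm.mul_apply, ← hr₁x] at h
      exact hxq ((π r₁).injective h ▸ hr₂x)
    have e3 : π (r₁ * r₂) x ≠ q := fun h => by
      rw [map_mul, hcomm r₁ hr₁ r₂ hr₂, Perm.mul_apply, ← hr₂x] at h
      exact hxp ((π r₂).injective h ▸ hr₁x)
    exact ((hfour _).resolve_left e1).resolve_left e2 |>.resolve_left e3
  obtain ⟨t, htD, ht⟩ : ∃ t ∈ D, r₃ = r₁ * r₂ * t :=
    ⟨(r₁ * r₂)⁻¹ * r₃, ⟨R.mul_mem (R.inv_mem (R.mul_mem hr₁ hr₂)) hr₃, by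
      show π _ = 1
      rw [map_mul, map_inv, inv_mul_eq_one]
      exact huniq _ (R.mul_mem hr₁ hr₂) _ hr₃ (h12x.trans hr₃x.symm)⟩, by group⟩
  have hk : Scalar σ (r₁ * r₂ * r₁⁻¹ * r₂⁻¹) := by
    set k := r₁ * r₂ * r₁⁻¹ * r₂⁻¹ with hkd
    have hkR : k ∈ R := R.mul_mem (R.mul_mem (R.mul_mem hr₁ hr₂) (R.inv_mem hr₁)) (R.inv_mem hr₂)
    have hk1 : π k = 1 := hinD r₁ hr₁ r₂ hr₂
    have e1 : qm (b * k * b⁻¹) = qm (r₂ * r₃ * r₂⁻¹ * r₃⁻¹) :=
      congrArg qm (by simp only [hkd, r₂, r₃]; group)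
    have ct : Commute (qm r₂) (qm t) := hqD r₂ hr₂ t htD
    have e2 : qm (r₂ * r₃ * r₂⁻¹ * r₃⁻¹) = (qm k)⁻¹ := by
      rw [hkd, ht]
      simp only [map_mul, map_inv, mul_inv_rev]
      calc qm r₂ * (qm r₁ * qm r₂ * qm t) * (qm r₂)⁻¹ * ((qm t)⁻¹ * ((qm r₂)⁻¹ * (qm r₁)⁻¹))
          = qm r₂ * qm r₁ * qm r₂ * (qm t * (qm r₂)⁻¹) *
              ((qm t)⁻¹ * ((qm r₂)⁻¹ * (qm r₁)⁻¹)) := by group
        _ = qm r₂ * qm r₁ * qm r₂ * ((qm r₂)⁻¹ * qm t) *
              ((qm t)⁻¹ * ((qm r₂)⁻¹ * (qm r₁)⁻¹)) := by rw [(ct.inv_left.eq).symm]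
        _ = _ := by group
    have hs1 : Scalar σ (b * k * b⁻¹ * k) :=
      (hq1 _).mp (by rw [map_mul, e1, e2, inv_mul_cancel])
    obtain ⟨hbk, hbk1⟩ := hconjD b hkR hk1
    have hv1 : ∀ y, coef σ e (b * k * b⁻¹ * k) y = 1 := by
      have hx1 : coef σ e (b * k * b⁻¹ * k) x = 1 := by
        have e := hL.coef_conj b hk1 x
        rw [hx] at e
        rw [hL.coef_mul hbk1 hk1, e, hL.coef_sq hk1]
      intro y
      rcases hsc _ hs1 with h | h
      · rw [h, hL.coef_one]
      · rw [h, hzc] at hx1; exact absurd hx1 (by decide)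
    have hstep : ∀ y, coef σ e k (π b y) = coef σ e k y := fun y => by
      have h := hv1 (π b y)
      rw [hL.coef_mul hbk1 hk1, hL.coef_conj b hk1] at h
      calc coef σ e k (π b y)
          = coef σ e k y * coef σ e k (π b y) * coef σ e k y := by
            rw [mul_comm (coef σ e k y), mul_assoc, hL.coef_sq hk1, mul_one]
        _ = coef σ e k y := by rw [h, one_mul]
    refine hL.scalar_of_const hk1 x fun y => ?_
    have hpq : coef σ e k q = coef σ e k p := hstep p
    have hps : coef σ e k s = coef σ e k p := (hstep q).trans hpq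
    have hxp' : coef σ e k x = coef σ e k p := by
      rw [hprod k hkR hk1, hpq, hps, mul_assoc, hL.coef_sq hk1, mul_one]
    rcases hfour y with rfl | rfl | rfl | rfl
    · rfl
    · exact hxp'.symm
    · exact hpq.trans hxp'.symm
    · exact hps.trans hxp'.symm
  have hc12 : Commute (qm r₁) (qm r₂) := (hqc r₁ r₂).mpr hk
  have hgenR : ∀ g ∈ R, ∃ i j : Bool, ∃ t' ∈ D,
      g = (if i then r₁ else 1) * (if j then r₂ else 1) * t' := by
    intro g hg
    have hsel : ∃ i j : Bool, π ((if i then r₁ else 1) * (if j then r₂ else 1)) x = π g x := by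
      rcases hfour (π g x) with h | h | h | h
      · exact ⟨false, false, by simp [h]⟩
      · exact ⟨true, false, by simp [h, hr₁x]⟩
      · exact ⟨false, true, by simp [h, hr₂x]⟩
      · exact ⟨true, true, by rw [h]; simpa using h12x⟩
    obtain ⟨i, j, hij⟩ := hsel
    have hmem : (if i then r₁ else 1) * (if j then r₂ else 1) ∈ R := by
      cases i <;> cases j <;> simp [hr₁, hr₂, R.mul_mem]
    refine ⟨i, j, ((if i then r₁ else 1) * (if j then r₂ else 1))⁻¹ * g,
      ⟨R.mul_mem (R.inv_mem hmem) hg, ?_⟩, by group⟩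
    show π _ = 1
    rw [map_mul, map_inv, inv_mul_eq_one]
    exact huniq _ hmem _ hg hij
  have hgc : ∀ h, Commute (qm h) (qm r₁) → Commute (qm h) (qm r₂) →
      (∀ t ∈ D, Commute (qm h) (qm t)) → ∀ g ∈ R, Commute (qm h) (qm g) := by
    intro h h1 h2 h3 g hg
    obtain ⟨i, j, t', ht', rfl⟩ := hgenR g hg
    rw [map_mul, map_mul]
    refine (Commute.mul_right ?_ ?_).mul_right (h3 t' ht')
    · cases i
      · simp
      · exact h1
    · cases j
      · simp
      · exact h2
  have hab : ∀ g ∈ R, ∀ h ∈ R, Scalar σ (g * h * g⁻¹ * h⁻¹) := fun g hg h hh =>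
    (hqc g h).mp (hgc g
      (hgc r₁ (Commute.refl _) hc12 (hqD r₁ hr₁) g hg).symm
      (hgc r₂ hc12.symm (Commute.refl _) (hqD r₂ hr₂) g hg).symm (hqD g hg) h hh)
  have hcen : ∀ g ∈ R, (∀ h ∈ R, g * h = h * g) → g = 1 ∨ g = z := by
    intro g hg hgh
    have hg1 := hL.cent g hg hgh
    refine hsc g (hL.scalar_of_const hg1 x fun y => ?_)
    obtain ⟨r', hr', rfl⟩ := hreg y
    have := hL.coef_conj r' hg1 x
    rwa [← hgh r' hr', mul_inv_cancel_right] at this
  have hzcomm : ∀ g : Γ, g * z = z * g := fun g => (Scalar.comm hC (Or.inr hzs) g).symm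
  refine Or.inr ⟨hR, z, hzR, hzne, hL.sq_one hC hz1, fun g _ => hzcomm g, hcen,
    fun g hg h hh => hsc _ (hab g hg h hh), fun g hg => hcen _ (R.mul_mem hg hg) fun h hh => ?_,
    D, inf_le_left, hD, fun g hg h hh => hL.diag_comm hC hg.2 hh.2,
    fun g hg => hL.sq_one hC hg.2⟩
  rcases hsc _ (hab g hg h hh) with he | he
  · have e : g * h = h * g := by rwa [mul_inv_eq_one, mul_inv_eq_iff_eq_mul] at he
    rw [mul_assoc, e, ← mul_assoc, e, mul_assoc]
  · have e : g * h = z * (h * g) := by rw [← he]; group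
    calc g * g * h = g * (z * (h * g)) := by rw [mul_assoc, e]
      _ = z * (g * h) * g := by rw [← mul_assoc, hzcomm]; simp [mul_assoc]
      _ = z * z * (h * g * g) := by rw [e]; simp [mul_assoc]
      _ = h * (g * g) := by rw [hL.sq_one hC hz1, one_mul, mul_assoc]

theorem shape (hC : Cubic σ b R) (h4 : Four b R a) : Shape R := by
  by_cases h : ∀ y, π b y ≠ y
  · exact hL.shape_three hC h4 h
  · push Not at h
    obtain ⟨x, hx⟩ := h
    exact hL.shape_four hC hx

end Lines

end Cfsg.Agent.Grp.CubicThree
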