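import Mathlib
import Cfsg.Agent.Lib.Grp.CubicThree.Lines

/-!
Weight spaces of a normal elementary abelian subgroup.
-/

set_option autoImplicit false

namespace Cfsg.Agent.Grp.CubicThree

open Module Equiv

variable {Γ V : Type*} [Group Γ] [AddCommGroup V] [Module (ZMod 3) V]
variable (σ : Γ →* Module.End (ZMod 3) V) {W : Subgroup Γ}

/-- The weight space of `χ`. -/
def weightSp (χ : W → ZMod 3) : Submodule (ZMod 3) V where
  carrier := {v | ∀ w : W, σ w v = χ w • v}
  add_mem' := fun {u v} hu hv w => by rw [map_add, hu w, hv w, smul_add]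
  zero_mem' := fun w => by rw [map_zero, smul_zero]
  smul_mem' := fun c v hv w => by rw [map_smul, hv w, smul_comm]

variable {σ}

theorem mem_weightSp {χ : W → ZMod 3} {v : V} :
    v ∈ weightSp σ χ ↔ ∀ w : W, σ w v = χ w • v := Iff.rfl

theorem weight_sum_zero (s : Finset (W → ZMod 3)) :
    ∀ (v : (W → ZMod 3) → V), (∀ χ ∈ s, v χ ∈ weightSp σ χ) → ∑ χ ∈ s, v χ = 0 →
      ∀ χ ∈ s, v χ = 0 := by
  classical
  induction s using Finset.induction with
  | empty => simp
  | @insert χ₀ s hnot ih =>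
    intro v hv hsum
    rw [Finset.sum_insert hnot] at hsum
    have h0 : ∀ χ ∈ s, v χ = 0 := by
      intro χ hχ
      obtain ⟨w, hw⟩ : ∃ w, χ w ≠ χ₀ w := Function.ne_iff.mp fun h => hnot (h ▸ hχ)
      have h1 := congrArg (σ w) hsum
      rw [map_add, map_sum, map_zero, hv χ₀ (Finset.mem_insert_self _ _) w,
        Finset.sum_congr rfl fun χ hχ => hv χ (Finset.mem_insert_of_mem hχ) w] at h1
      have h2 : ∑ χ ∈ s, (χ w - χ₀ w) • v χ = 0 := by
        have h3 := congrArg (fun x => χ₀ w • x) hsum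
        simp only [smul_add, Finset.smul_sum, smul_zero] at h3
        simp only [sub_smul, Finset.sum_sub_distrib]
        rw [eq_neg_of_add_eq_zero_right h1, eq_neg_of_add_eq_zero_right h3, sub_self]
      exact (smul_eq_zero.mp (ih (fun χ => (χ w - χ₀ w) • v χ)
        (fun χ hχ => Submodule.smul_mem _ _ (hv χ (Finset.mem_insert_of_mem hχ))) h2 χ hχ)
        ).resolve_left (sub_ne_zero.mpr hw)
    rw [Finset.sum_eq_zero h0, add_zero] at hsum
    intro χ hχ
    rcases Finset.mem_insert.mp hχ with rfl | hχ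
    · exact hsum
    · exact h0 χ hχ

theorem weight_span (hab : ∀ x ∈ W, ∀ y ∈ W, x * y = y * x) (hsq : ∀ w ∈ W, w * w = 1)
    (s : Finset W) :
    Submodule.span (ZMod 3) {v : V | ∀ w ∈ s, σ (w : Γ) v = v ∨ σ (w : Γ) v = -v} = ⊤ := by
  classical
  induction s using Finset.induction with
  | empty => simp
  | @insert w s hw ih =>
    rw [eq_top_iff, ← ih, Submodule.span_le]
    intro v hv
    have hss : σ (w : Γ) (σ (w : Γ) v) = v := by rw [← apply_mul, hsq _ w.2, map_one]; rfl
    rw [split_vec v (σ (w : Γ) v)]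
    refine Submodule.add_mem _ (Submodule.subset_span fun u hu => ?_)
      (Submodule.subset_span fun u hu => ?_) <;>
    rcases Finset.mem_insert.mp hu with rfl | hu
    · left; rw [map_neg, map_add, hss, add_comm]
    · have hc : σ (u : Γ) (σ (w : Γ) v) = σ (w : Γ) (σ (u : Γ) v) := by
        rw [← apply_mul, hab _ u.2 _ w.2, apply_mul]
      rcases hv u hu with h | h
      · left; rw [map_neg, map_add, hc, h]
      · right; rw [map_neg, map_add, hc, h, map_neg]; abel
    · right; rw [map_neg, map_sub, hss, neg_neg, neg_sub]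
    · have hc : σ (u : Γ) (σ (w : Γ) v) = σ (w : Γ) (σ (u : Γ) v) := by
        rw [← apply_mul, hab _ u.2 _ w.2, apply_mul]
      rcases hv u hu with h | h
      · left; rw [map_neg, map_sub, hc, h]
      · right; rw [map_neg, map_sub, hc, h, map_neg]; abel

variable [Finite V] {b a : Γ} {R : Subgroup Γ}

theorem shape_of_elementary (hC : Cubic σ b R) (h4 : Four b R a) (hWn : W.Normal) (hWR : W ≤ R)
    (hab : ∀ x ∈ W, ∀ y ∈ W, x * y = y * x) (hsq : ∀ w ∈ W, w * w = 1)
    (hns : ∃ w ∈ W, ¬ Scalar σ w) : Shape R := by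
  classical
  haveI : Finite Γ :=
    Finite.of_injective (fun g => (σ g : V → V)) (DFunLike.coe_injective.comp hC.inj)
  haveI : Fintype W := Fintype.ofFinite W
  haveI : FiniteDimensional (ZMod 3) V := Module.Finite.of_finite
  haveI := hWn
  let act : Γ → (W → ZMod 3) → (W → ZMod 3) :=
    fun g χ w => χ ⟨g⁻¹ * w * g⁻¹⁻¹, hWn.conj_mem _ w.2 g⁻¹⟩
  have hact1 : ∀ χ, act 1 χ = χ := fun χ => funext fun w => congrArg χ (Subtype.ext (by simp))
  have hactm : ∀ g h χ, act g (act h χ) = act (g * h) χ := fun g h χ =>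
    funext fun w => congrArg χ (Subtype.ext (by simp [mul_assoc]))
  have hmap : ∀ g χ v, v ∈ weightSp σ χ → σ g v ∈ weightSp σ (act g χ) := by
    intro g χ v hv w
    rw [← apply_mul, show (w : Γ) * g = g * (g⁻¹ * w * g⁻¹⁻¹) by group, apply_mul]
    have e := hv ⟨g⁻¹ * w * g⁻¹⁻¹, hWn.conj_mem _ w.2 g⁻¹⟩
    rw [e, map_smul]
  have hne : ∀ g χ, weightSp σ χ ≠ ⊥ → weightSp σ (act g χ) ≠ ⊥ := by
    intro g χ hχ h
    obtain ⟨v, hv, hv0⟩ := Submodule.exists_mem_ne_zero_of_ne_bot hχ
    have h1 := hmap g χ v hv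
    rw [h, Submodule.mem_bot] at h1
    exact hv0 (by rw [← inv_apply_apply (σ := σ) g v, h1, map_zero])
  let Ω := {χ : W → ZMod 3 // weightSp σ χ ≠ ⊥}
  let π : Γ →* Perm Ω :=
    { toFun := fun g =>
        { toFun := fun χ => ⟨act g χ, hne g χ χ.2⟩
          invFun := fun χ => ⟨act g⁻¹ χ, hne g⁻¹ χ χ.2⟩
          left_inv := fun χ => Subtype.ext (by
            show act g⁻¹ (act g χ) = χ
            rw [hactm, inv_mul_cancel, hact1])
          right_inv := fun χ => Subtype.ext (by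
            show act g (act g⁻¹ χ) = χ
            rw [hactm, mul_inv_cancel, hact1]) }
      map_one' := Equiv.ext fun χ => Subtype.ext (hact1 _)
      map_mul' := fun g h => Equiv.ext fun χ => Subtype.ext (hactm g h _).symm }
  have hπv : ∀ g (χ : Ω) v, v ∈ weightSp σ χ.1 → σ g v ∈ weightSp σ (π g χ).1 :=
    fun g χ v hv => hmap g χ v hv
  haveI : Fintype Ω := Fintype.ofFinite Ω
  -- independence
  have hindep : ∀ v : Ω → V, (∀ χ, v χ ∈ weightSp σ χ.1) → ∑ χ, v χ = 0 → ∀ χ, v χ = 0 := by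
    intro v hv hsum χ
    let F : (W → ZMod 3) → V := fun f => if h : weightSp σ f ≠ ⊥ then v ⟨f, h⟩ else 0
    have hF : ∀ χ : Ω, F χ.1 = v χ := fun χ => dif_pos χ.2
    have := weight_sum_zero (σ := σ) ((Finset.univ : Finset Ω).image Subtype.val) F
      (fun f hf => by
        obtain ⟨χ, -, rfl⟩ := Finset.mem_image.mp hf
        rw [hF]; exact hv χ) (by
        rw [Finset.sum_image fun x _ y _ h => Subtype.ext h]; simpa only [hF] using hsum)
      χ.1 (Finset.mem_image_of_mem _ (Finset.mem_univ χ))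
    rwa [hF] at this
  -- spanning
  have hspan : ∀ U : Submodule (ZMod 3) V, (∀ χ : Ω, weightSp σ χ.1 ≤ U) → U = ⊤ := by
    intro U hU
    rw [eq_top_iff, ← weight_span (σ := σ) hab hsq Finset.univ, Submodule.span_le]
    intro v hv
    by_cases hv0 : v = 0
    · rw [hv0]; exact U.zero_mem
    let f : W → ZMod 3 := fun w => if σ (w : Γ) v = v then 1 else -1
    have hvf : v ∈ weightSp σ f := fun w => by
      by_cases h : σ (w : Γ) v = v
      · simp [f, h]
      · simp [f, h, (hv w (Finset.mem_univ _)).resolve_left h]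
    exact hU ⟨f, fun h => hv0 ((Submodule.mem_bot (ZMod 3)).mp (h ▸ hvf))⟩ hvf
  -- weights determine the action of W
  have hsign : ∀ (χ : Ω) (w : W), χ.1 w = 1 ∨ χ.1 w = -1 := by
    intro χ w
    refine (zmod3_cases _).resolve_left fun h0 => ?_
    obtain ⟨v, hv, hv0⟩ := Submodule.exists_mem_ne_zero_of_ne_bot χ.2
    have h1 := hv w
    rw [h0, zero_smul] at h1
    exact hv0 (by rw [← inv_apply_apply (σ := σ) (w : Γ) v, h1, map_zero])
  -- some weight is moved
  obtain ⟨χ₀, hχ₀⟩ : ∃ χ, π b χ ≠ χ := by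
    by_contra hcon
    push Not at hcon
    have hb : π b = 1 := Equiv.ext hcon
    have hker : ∀ g, π g = 1 := fun g => by
      obtain ⟨r, hr, i, rfl⟩ := hC.decomp g
      have hR : R ≤ π.ker := hC.gen.trans ((Subgroup.closure_le _).mpr fun x ⟨r, _, hx⟩ => by
        subst hx
        simp [MonoidHom.mem_ker, hb])
      rw [map_mul, map_pow, hb, one_pow, mul_one]
      exact hR hr
    obtain ⟨w₁, hw₁, hw₁'⟩ := hns
    have hχ : ∀ χ : Ω, weightSp σ χ.1 = ⊤ := fun χ => by
      rcases hC.irr (weightSp σ χ.1) (fun g v hv => by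
        have h := hπv g χ v hv
        rwa [hker g] at h) with h | h
      · exact absurd h χ.2
      · exact h
    rcases isEmpty_or_nonempty Ω with hΩ | ⟨⟨χ⟩⟩
    · exact hw₁' (Or.inl (LinearMap.ext fun v => by
        have : v ∈ (⊥ : Submodule (ZMod 3) V) := hspan ⊥ (fun χ => (hΩ.false χ).elim) ▸ trivial
        rw [(Submodule.mem_bot (ZMod 3)).mp this, map_zero, map_zero]))
    have h2 : ∀ v, σ w₁ v = χ.1 ⟨w₁, hw₁⟩ • v := fun v =>
      (mem_weightSp.mp (hχ χ ▸ Submodule.mem_top)) ⟨w₁, hw₁⟩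
    rcases hsign χ ⟨w₁, hw₁⟩ with h | h
    · exact hw₁' (Or.inl (LinearMap.ext fun v => by rw [h2, h, one_smul]; rfl))
    · exact hw₁' (Or.inr (LinearMap.ext fun v => by rw [h2, h, neg_smul, one_smul]; rfl))
  have hb3 : ∀ χ, π b (π b (π b χ)) = χ := fun χ => by
    rw [← Perm.mul_apply, ← Perm.mul_apply, ← map_mul, ← map_mul, ← pow_two, ← pow_succ, hC.b3,
      map_one]
    rfl
  have hdist : ∀ χ, π b χ ≠ χ → π b (π b χ) ≠ χ ∧ π b (π b χ) ≠ π b χ := fun χ h =>
    ⟨fun h' => h (by conv_rhs => rw [← hb3 χ, h']), fun h' => h ((π b).injective h')⟩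
  -- a moved weight space is a line
  have hline : ∀ χ, π b χ ≠ χ → finrank (ZMod 3) (weightSp σ χ.1) = 1 := by
    intro χ hχ
    obtain ⟨h20, h21⟩ := hdist χ hχ
    have h1 := hC.triple_rank (weightSp σ χ.1) (fun x hx y hy w hw h => by
      let F : Ω → V := fun ψ =>
        if ψ = χ then x else if ψ = π b χ then σ b y else
          if ψ = π b (π b χ) then σ b (σ b w) else 0
      have hF : ∀ ψ, F ψ ∈ weightSp σ ψ.1 := fun ψ => by
        simp only [F]; split_ifs with e1 e2 e3
        · exact e1 ▸ hx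
        · exact e2 ▸ hπv b χ y hy
        · exact e3 ▸ hπv b _ _ (hπv b χ w hw)
        · exact zero_mem _
      have hsum : ∑ ψ, F ψ = 0 := by
        rw [← Finset.sum_subset (Finset.subset_univ {χ, π b χ, π b (π b χ)}) (fun ψ _ hψ => by
          simp only [Finset.mem_insert, Finset.mem_singleton, not_or] at hψ
          simp [F, hψ.1, hψ.2.1, hψ.2.2]),
          Finset.sum_insert (by simp [Ne.symm hχ, Ne.symm h20]), Finset.sum_pair (Ne.symm h21)]
        simpa [F, hχ, h20, h21, add_assoc] using h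
      have e := hindep F hF hsum
      have e1 := e χ
      have e2 := e (π b χ)
      have e3 := e (π b (π b χ))
      simp only [F, if_pos, if_neg hχ, if_neg h20, if_neg h21] at e1 e2 e3
      refine ⟨e1, ?_, ?_⟩
      · rw [← inv_apply_apply (σ := σ) b y, e2, map_zero]
      · rw [← inv_apply_apply (σ := σ) b w, ← inv_apply_apply (σ := σ) b (σ b w), e3, map_zero,
          map_zero])
    have h0 : finrank (ZMod 3) (weightSp σ χ.1) ≠ 0 :=
      fun h => χ.2 (Submodule.finrank_eq_zero.mp h)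
    omega
  -- transitivity
  have htrans : ∀ χ : Ω, ∃ g, π g χ₀ = χ := by
    intro χ
    by_contra hcon
    push Not at hcon
    let U : Submodule (ZMod 3) V := ⨆ g : Γ, weightSp σ (π g χ₀).1
    rcases hC.irr U (fun g v hv => by
      have : U ≤ U.comap (σ g) := iSup_le fun h v hv => by
        refine Submodule.mem_iSup_of_mem (g * h) ?_
        rw [map_mul, Perm.mul_apply]
        exact hπv g _ v hv
      exact this hv) with h | h
    · have hle : weightSp σ χ₀.1 ≤ U :=
        le_trans (by rw [map_one]; exact le_rfl) (le_iSup (fun g : Γ => weightSp σ (π g χ₀).1) 1)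
      exact χ₀.2 (le_bot_iff.mp (le_of_le_of_eq hle h))
    · obtain ⟨v, hv, hv0⟩ := Submodule.exists_mem_ne_zero_of_ne_bot χ.2
      haveI : Fintype Γ := Fintype.ofFinite Γ
      have hmem : v ∈ ⨆ g ∈ (Finset.univ : Finset Γ), weightSp σ (π g χ₀).1 := by
        simpa using (h ▸ Submodule.mem_top : v ∈ U)
      obtain ⟨μ, hμ⟩ := (Submodule.mem_iSup_finset_iff_exists_sum _ _).mp hmem
      let F : Ω → V := fun ψ => (∑ g ∈ Finset.univ.filter (fun g => π g χ₀ = ψ), (μ g : V)) -
        if ψ = χ then v else 0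
      have hF : ∀ ψ, F ψ ∈ weightSp σ ψ.1 := fun ψ =>
        sub_mem (sum_mem fun g hg => (Finset.mem_filter.mp hg).2 ▸ (μ g).2)
          (by split_ifs with e; exacts [e ▸ hv, zero_mem _])
      have hsum : ∑ ψ, F ψ = 0 := by
        simp only [F, Finset.sum_sub_distrib, Finset.sum_ite_eq', Finset.mem_univ, if_true]
        rw [Finset.sum_fiberwise Finset.univ (fun g => π g χ₀) (fun g => (μ g : V)), hμ,
          Finset.sum_eq_single χ (fun ψ _ h => if_neg h) (by simp), if_pos rfl, sub_self]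
      have e := hindep F hF hsum χ
      simp [F, hcon] at e
      exact hv0 e
  have hrank : ∀ χ : Ω, finrank (ZMod 3) (weightSp σ χ.1) = 1 := by
    intro χ
    obtain ⟨g, hg⟩ := htrans χ
    let σe : V ≃ₗ[ZMod 3] V := LinearEquiv.ofLinear (σ g) (σ g⁻¹)
      (LinearMap.ext (apply_inv_apply g)) (LinearMap.ext (inv_apply_apply g))
    have hmp : (weightSp σ χ₀.1).map (σe : V →ₗ[ZMod 3] V) = weightSp σ χ.1 := by
      ext v
      constructor
      · rintro ⟨u, hu, rfl⟩; exact hg ▸ hπv g χ₀ u hu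
      · intro hv
        refine ⟨σ g⁻¹ v, ?_, apply_inv_apply g v⟩
        have h := hπv g⁻¹ χ v hv
        rwa [← hg, map_inv, show (π g)⁻¹ (π g χ₀) = χ₀ from (π g).symm_apply_apply χ₀] at h
    rw [← hmp, LinearEquiv.finrank_map_eq, hline χ₀ hχ₀]
  -- the basis
  choose ev hev hev0 using fun χ : Ω => Submodule.exists_mem_ne_zero_of_ne_bot χ.2
  have hgenline : ∀ χ, ∀ v ∈ weightSp σ χ.1, ∃ c : ZMod 3, v = c • ev χ := fun χ v hv => by
    obtain ⟨c, hc⟩ := exists_smul_eq_of_finrank_eq_one (hrank χ)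
      (show (⟨ev χ, hev χ⟩ : weightSp σ χ.1) ≠ 0 from fun h => hev0 χ (congrArg Subtype.val h))
      ⟨v, hv⟩
    exact ⟨c, (congrArg Subtype.val hc).symm⟩
  let e : Basis Ω (ZMod 3) V := Basis.mk (v := ev)
    (Fintype.linearIndependent_iff.mpr fun c hc χ =>
      (smul_eq_zero.mp (hindep (fun χ => c χ • ev χ)
        (fun χ => Submodule.smul_mem _ _ (hev χ)) hc χ)).resolve_right (hev0 χ))
    (le_of_eq (hspan _ fun χ v hv => by
      obtain ⟨c, rfl⟩ := hgenline χ v hv
      exact Submodule.smul_mem _ _ (Submodule.subset_span ⟨χ, rfl⟩)).symm)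
  have hee : ∀ χ, e χ = ev χ := fun χ => Basis.mk_apply _ _ χ
  -- only one triple
  have htri : IsTri (π b) := by
    obtain ⟨h20, h21⟩ := hdist χ₀ hχ₀
    refine ⟨χ₀, hχ₀, h20, h21, hb3 χ₀, fun ψ n0 n1 n2 => ?_⟩
    by_contra hψ
    obtain ⟨k20, k21⟩ := hdist ψ hψ
    have m1 : π b ψ ≠ χ₀ := fun h => n2 (by rw [← h, hb3])
    have m2 : π b ψ ≠ π b χ₀ := (π b).injective.ne n0
    have m3 : π b ψ ≠ π b (π b χ₀) := (π b).injective.ne n1
    have l1 : π b (π b ψ) ≠ χ₀ := fun h => n1 (by rw [← h, hb3])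
    have l2 : π b (π b ψ) ≠ π b χ₀ := (π b).injective.ne m1
    have l3 : π b (π b ψ) ≠ π b (π b χ₀) := (π b).injective.ne m2
    have h1 := hC.triple_rank (weightSp σ χ₀.1 ⊔ weightSp σ ψ.1) (fun x hx y hy w hw h => by
      obtain ⟨x₁, hx₁, x₂, hx₂, rfl⟩ := Submodule.mem_sup.mp hx
      obtain ⟨y₁, hy₁, y₂, hy₂, rfl⟩ := Submodule.mem_sup.mp hy
      obtain ⟨w₁, hw₁, w₂, hw₂, rfl⟩ := Submodule.mem_sup.mp hw
      let F : Ω → V := fun φ =>
        if φ = χ₀ then x₁ else if φ = π b χ₀ then σ b y₁ else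
          if φ = π b (π b χ₀) then σ b (σ b w₁) else
        if φ = ψ then x₂ else if φ = π b ψ then σ b y₂ else
          if φ = π b (π b ψ) then σ b (σ b w₂) else 0
      have hF : ∀ φ, F φ ∈ weightSp σ φ.1 := fun φ => by
        simp only [F]; split_ifs with e1 e2 e3 e4 e5 e6
        · exact e1 ▸ hx₁
        · exact e2 ▸ hπv b _ _ hy₁
        · exact e3 ▸ hπv b _ _ (hπv b _ _ hw₁)
        · exact e4 ▸ hx₂
        · exact e5 ▸ hπv b _ _ hy₂
        · exact e6 ▸ hπv b _ _ (hπv b _ _ hw₂)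
        · exact zero_mem _
      have hsum : ∑ φ, F φ = 0 := by
        rw [← Finset.sum_subset (Finset.subset_univ
          {χ₀, π b χ₀, π b (π b χ₀), ψ, π b ψ, π b (π b ψ)}) (fun φ _ hφ => by
          simp only [Finset.mem_insert, Finset.mem_singleton, not_or] at hφ
          simp [F, hφ.1, hφ.2.1, hφ.2.2.1, hφ.2.2.2.1, hφ.2.2.2.2.1, hφ.2.2.2.2.2]),
          Finset.sum_insert (by simp [Ne.symm hχ₀, Ne.symm h20, Ne.symm n0, Ne.symm m1, Ne.symm l1]),
          Finset.sum_insert (by simp [Ne.symm h21, Ne.symm n1, Ne.symm m2, Ne.symm l2]),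
          Finset.sum_insert (by simp [Ne.symm n2, Ne.symm m3, Ne.symm l3]),
          Finset.sum_insert (by simp [Ne.symm hψ, Ne.symm k20]), Finset.sum_pair (Ne.symm k21)]
        simp only [F, if_pos, if_neg hχ₀, if_neg h20, if_neg h21, if_neg n0, if_neg n1, if_neg n2,
          if_neg m1, if_neg m2, if_neg m3, if_neg l1, if_neg l2, if_neg l3, if_neg hψ, if_neg k20,
          if_neg k21]
        rw [← h, map_add, map_add, map_add]; abel
      have e := hindep F hF hsum
      have e1 := e χ₀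
      have e2 := e (π b χ₀)
      have e3 := e (π b (π b χ₀))
      have e4 := e ψ
      have e5 := e (π b ψ)
      have e6 := e (π b (π b ψ))
      simp only [F, if_pos, if_neg hχ₀, if_neg h20, if_neg h21, if_neg n0, if_neg n1, if_neg n2,
        if_neg m1, if_neg m2, if_neg m3, if_neg l1, if_neg l2, if_neg l3, if_neg hψ, if_neg k20,
        if_neg k21] at e1 e2 e3 e4 e5 e6
      have hz : ∀ u : V, σ b u = 0 → u = 0 := fun u hu => by
        rw [← inv_apply_apply (σ := σ) b u, hu, map_zero]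
      exact ⟨by rw [e1, e4, add_zero], by rw [hz _ e2, hz _ e5, add_zero],
        by rw [hz _ (hz _ e3), hz _ (hz _ e6), add_zero]⟩)
    have h2 := Submodule.finrank_sup_add_finrank_inf_eq (weightSp σ χ₀.1) (weightSp σ ψ.1)
    have h3 : weightSp σ χ₀.1 ⊓ weightSp σ ψ.1 = ⊥ := (Submodule.eq_bot_iff _).mpr fun v hv => by
      let F : Ω → V := fun φ => if φ = χ₀ then v else if φ = ψ then -v else 0
      have e := hindep F (fun φ => by
        simp only [F]; split_ifs with e1 e2
        · exact e1 ▸ hv.1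
        · exact e2 ▸ neg_mem hv.2
        · exact zero_mem _) (by
        rw [← Finset.sum_subset (Finset.subset_univ {χ₀, ψ}) (fun φ _ hφ => by
          simp only [Finset.mem_insert, Finset.mem_singleton, not_or] at hφ
          simp [F, hφ.1, hφ.2]), Finset.sum_pair (Ne.symm n0)]
        simp [F, n0]) χ₀
      simpa [F] using e
    rw [h3, finrank_bot, hrank, hrank] at h2
    omega
  have hL : Lines σ b R π e :=
    { line := fun g χ => by
        rw [hee, hee]
        exact hgenline _ _ (hπv g χ _ (hev χ))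
      tri := htri
      trans := fun χ χ' => by
        obtain ⟨g, hg⟩ := htrans χ
        obtain ⟨g', hg'⟩ := htrans χ'
        exact ⟨g' * g⁻¹, by
          rw [← hg, map_mul, Perm.mul_apply, map_inv,
            show (π g)⁻¹ (π g χ₀) = χ₀ from (π g).symm_apply_apply χ₀, hg']⟩
      nonscalar := by
        obtain ⟨w, hw, hw'⟩ := hns
        refine ⟨w, hWR hw, Equiv.ext fun χ => Subtype.ext (funext fun u => congrArg χ.1 ?_), hw'⟩
        exact Subtype.ext (by
          show w⁻¹ * (u : Γ) * w⁻¹⁻¹ = u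
          rw [inv_inv, mul_assoc, hab _ u.2 _ hw, inv_mul_cancel_left])
      cent := fun y _ hy => Equiv.ext fun χ => Subtype.ext (funext fun u => congrArg χ.1
        (Subtype.ext (by
          show y⁻¹ * (u : Γ) * y⁻¹⁻¹ = u
          rw [inv_inv, mul_assoc, ← hy _ (hWR u.2), inv_mul_cancel_left]))) }
  exact hL.shape hC h4

end Cfsg.Agent.Grp.CubicThree
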