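import Mathlib
import Cfsg.Agent.Lib.Grp.CubicThree.Weights
import Cfsg.Agent.Lib.Grp.CubicThree.Pairs

/-!
If all normal abelian subgroups inside consist of scalars, the configuration is impossible.
-/

set_option autoImplicit false

namespace Cfsg.Agent.Grp.CubicThree

open scoped commutatorElement

open Module

variable {Γ V : Type*} [Group Γ] [AddCommGroup V] [Module (ZMod 3) V] [Finite V]
variable {σ : Γ →* Module.End (ZMod 3) V} {b a : Γ} {R : Subgroup Γ}

theorem card_dvd_of_free {α : Type*} [Finite α] (G : Subgroup (Equiv.Perm α)) (p : α → Prop)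
    (hinv : ∀ g ∈ G, ∀ x, p x → p (g x)) (hfree : ∀ g ∈ G, ∀ x, p x → g x = x → g = 1) :
    Nat.card G ∣ Nat.card {x // p x} := by
  classical
  haveI : Fintype α := Fintype.ofFinite α
  letI : MulAction G {x // p x} :=
    { smul := fun g x => ⟨(g : Equiv.Perm α) x.1, hinv g g.2 x x.2⟩
      one_smul := fun x => Subtype.ext rfl
      mul_smul := fun g h x => Subtype.ext rfl }
  haveI : Fintype G := Fintype.ofFinite G
  haveI : Fintype (MulAction.orbitRel.Quotient G {x // p x}) := Fintype.ofFinite _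
  have h := MulAction.sum_card_fixedBy_eq_card_orbits_mul_card_group G {x // p x}
  rw [Finset.sum_eq_single (1 : G) (fun g _ hg => Fintype.card_eq_zero_iff.mpr
    ⟨fun x => hg (Subtype.ext (hfree g g.2 x.1 x.1.2 (congrArg Subtype.val x.2)))⟩) (by simp)] at h
  have h1 : Fintype.card (MulAction.fixedBy {x // p x} (1 : G)) = Fintype.card {x // p x} :=
    Fintype.card_congr (Equiv.subtypeUnivEquiv fun x => one_smul G x)
  rw [h1] at h
  rw [Nat.card_eq_fintype_card, Nat.card_eq_fintype_card, h]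
  exact dvd_mul_left _ _

omit [Finite V] in
theorem sq_dim_bound {T : Finset Γ} [Finite V] (hC : Cubic σ b R) {M : Subgroup Γ} (hM : Cls σ M)
    (hTM : ∀ t ∈ T, t ∈ M)
    (hsep : ∀ s ∈ T, ∀ t ∈ T, s ≠ t → ∃ g ∈ M, ¬ (Commute g s ↔ Commute g t)) :
    T.card ≤ finrank (ZMod 3) V * finrank (ZMod 3) V := by
  classical
  haveI : FiniteDimensional (ZMod 3) V := Module.Finite.of_finite
  let Ad : Γ →* Module.End (ZMod 3) (Module.End (ZMod 3) V) :=
    { toFun := fun g =>
        { toFun := fun f => σ g * f * σ g⁻¹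
          map_add' := fun f f' => by rw [mul_add, add_mul]
          map_smul' := fun c f => by rw [mul_smul_comm, smul_mul_assoc]; rfl }
      map_one' := LinearMap.ext fun f => by
        show σ 1 * f * σ 1⁻¹ = f
        rw [inv_one, map_one, one_mul, mul_one]
      map_mul' := fun g h => LinearMap.ext fun f => by
        show σ (g * h) * f * σ (g * h)⁻¹ = σ g * (σ h * f * σ h⁻¹) * σ g⁻¹
        rw [mul_inv_rev, map_mul, map_mul]; simp only [mul_assoc] }
  let χ : Γ → (M → ZMod 3) := fun t g => if Commute (g : Γ) t then 1 else -1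
  have hχinj : ∀ s ∈ T, ∀ t ∈ T, χ s = χ t → s = t := by
    intro s hs t ht h
    by_contra hne
    obtain ⟨g, hg, hiff⟩ := hsep s hs t ht hne
    have h' := congrFun h ⟨g, hg⟩
    simp only [χ] at h'
    split_ifs at h' with h1 h2 h2
    · exact hiff ⟨fun _ => h2, fun _ => h1⟩
    · exact absurd h' (by decide)
    · exact absurd h' (by decide)
    · exact hiff ⟨fun h => absurd h h1, fun h => absurd h h2⟩
  have hmem : ∀ t ∈ T, σ t ∈ weightSp Ad (χ t) := by
    intro t ht g
    show σ (g : Γ) * σ t * σ (g : Γ)⁻¹ = χ t g • σ t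
    rw [← map_mul]
    simp only [χ]
    split_ifs with h
    · rw [h.eq, ← map_mul, mul_inv_cancel_right, one_smul]
    · have hA := (hM.comm _ g.2 _ (hTM t ht)).resolve_left h
      rw [show σ ((g : Γ) * t) = _ from hA, neg_mul, ← map_mul, mul_inv_cancel_right, neg_smul,
        one_smul]
  have hli : LinearIndependent (ZMod 3) (fun t : T => σ (t : Γ)) := by
    rw [Fintype.linearIndependent_iff]
    intro c hc t
    let v : (M → ZMod 3) → Module.End (ZMod 3) V := fun f =>
      ∑ s ∈ Finset.univ.filter (fun s : T => χ s = f), c s • σ (s : Γ)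
    have h0 := weight_sum_zero (σ := Ad) ((Finset.univ : Finset T).image fun s : T => χ s) v
      (fun f hf => Submodule.sum_mem _ fun s hs =>
        (Finset.mem_filter.mp hs).2 ▸ Submodule.smul_mem _ _ (hmem s s.2)) (by
      rw [← hc, ← Finset.sum_fiberwise_of_maps_to (g := fun s : T => χ s)
        (t := (Finset.univ : Finset T).image fun s : T => χ s)
        (fun s _ => Finset.mem_image_of_mem _ (Finset.mem_univ s))])
      (χ t) (Finset.mem_image_of_mem _ (Finset.mem_univ t))
    have hsing : Finset.univ.filter (fun s : T => χ s = χ (t : Γ)) = {t} := Finset.ext fun s => by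
      simp only [Finset.mem_filter, Finset.mem_univ, true_and, Finset.mem_singleton]
      exact ⟨fun h => Subtype.ext (hχinj s s.2 t t.2 h), fun h => h ▸ rfl⟩
    simp only [v, hsing, Finset.sum_singleton] at h0
    refine (smul_eq_zero.mp h0).resolve_right fun h => ?_
    haveI := hC.nontrivial
    obtain ⟨w, hw⟩ := exists_ne (0 : V)
    exact hw (by rw [← inv_apply_apply (σ := σ) (t : Γ) w, h, LinearMap.zero_apply, map_zero])
  have := hli.fintype_card_le_finrank
  rwa [Fintype.card_coe, Module.finrank_linearMap] at this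

set_option maxHeartbeats 2000000 in
theorem not_class_two [Group.IsSolvable Γ] (hC : Cubic σ b R) (h4 : Four b R a)
    (hsc : ∀ W : Subgroup Γ, W.Normal → W ≤ R → (∀ x ∈ W, ∀ y ∈ W, x * y = y * x) →
      ∀ w ∈ W, Scalar σ w) : False := by
  classical
  haveI : Finite Γ :=
    Finite.of_injective (fun g => (σ g : V → V)) (DFunLike.coe_injective.comp hC.inj)
  haveI : FiniteDimensional (ZMod 3) V := Module.Finite.of_finite
  haveI : Nontrivial V := hC.nontrivial
  have hb3 : b * (b * b) = 1 := by rw [← pow_two, ← pow_succ', hC.b3]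
  have haR : ¬ Scalar σ a := fun h => by
    have hp := h4.prod
    have e : ∀ g, g * a * g⁻¹ = a := fun g => by rw [← h.comm hC g, mul_inv_cancel_right]
    rw [e, e, h4.sq, one_mul] at hp
    exact h4.ne hp
  -- centre of normal subgroups inside
  have hcen : ∀ X : Subgroup Γ, X.Normal → X ≤ R →
      ∀ w ∈ X, (∀ x ∈ X, w * x = x * w) → Scalar σ w := fun X hX hXR w hw hwc =>
    hsc (X ⊓ Subgroup.centralizer (X : Set Γ)) (Subgroup.normal_inf_normal X _)
      (inf_le_left.trans hXR)
      (fun p hp q hq => Subgroup.mem_centralizer_iff.mp hq.2 p hp.1)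
      w ⟨hw, Subgroup.mem_centralizer_iff.mpr fun x hx => (hwc x hx).symm⟩
  -- normal subgroups of this type
  have hexCls : ∀ Y : Subgroup Γ, Y.Normal → Y ≤ R → (∃ y ∈ Y, ¬ Scalar σ y) →
      ∃ X : Subgroup Γ, X.Normal ∧ X ≤ Y ∧ Cls σ X ∧ ∃ x ∈ X, ¬ Scalar σ x := by
    intro Y hY hYR hYns
    let S : Set (Subgroup Γ) := {X | X.Normal ∧ X ≤ Y ∧ ∃ x ∈ X, ¬ Scalar σ x}
    obtain ⟨X, hX⟩ := Set.Finite.exists_minimal (Set.toFinite S) ⟨Y, hY, le_rfl, hYns⟩
    obtain ⟨hXn, hXY, hXns⟩ := hX.1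
    haveI := hXn
    have hne : X ≠ ⊥ := fun h => by
      obtain ⟨x, hx, hx'⟩ := hXns
      rw [h, Subgroup.mem_bot] at hx
      exact hx' (hx ▸ Or.inl (map_one σ))
    haveI : Group.IsSolvable X := inferInstance
    have hlt : ⁅X, X⁆ < X := Group.IsSolvable.commutator_lt_of_ne_bot hne
    have hcs : ∀ x ∈ ⁅X, X⁆, Scalar σ x := fun x hx => by
      by_contra h
      exact hlt.ne (le_antisymm hlt.le (hX.2 ⟨inferInstance, hlt.le.trans hXY, x, hx, h⟩ hlt.le))
    have hcomm : ∀ g ∈ X, ∀ h ∈ X, CA σ g h := fun g hg h hh => (scalar_iff_CA hC).mp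
      (hcs _ (by simpa [commutatorElement_def] using Subgroup.commutator_mem_commutator hg hh))
    refine ⟨X, hXn, hXY, ⟨hcomm, fun g hg => hcen X hXn (hXY.trans hYR) _ (X.mul_mem hg hg)
      fun h hh => ?_⟩, hXns⟩
    rcases hcomm g hg h hh with H | H
    · exact (H.mul_left H).eq
    · exact (H.mul_anti hC H).eq
  obtain ⟨X₀, hX₀n, hX₀R, hX₀c, hX₀ns⟩ :=
    hexCls R hC.normal le_rfl ⟨a, h4.mem, haR⟩
  let S : Set (Subgroup Γ) := {X | X.Normal ∧ X ≤ R ∧ Cls σ X ∧ ∃ x ∈ X, ¬ Scalar σ x}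
  obtain ⟨M, hM⟩ := Set.Finite.exists_maximal (Set.toFinite S) ⟨X₀, hX₀n, hX₀R, hX₀c, hX₀ns⟩
  obtain ⟨hMn, hMR, hMc, hMns⟩ := hM.1
  haveI := hMn
  -- the centraliser of `M` in `R`
  have hCM : ∀ g ∈ R, (∀ m ∈ M, g * m = m * g) → Scalar σ g := by
    by_contra hcon
    push Not at hcon
    obtain ⟨g, hgR, hgM, hgns⟩ := hcon
    haveI := hC.normal
    obtain ⟨Y, hYn, hYle, hYc, hYns⟩ :=
      hexCls (R ⊓ Subgroup.centralizer (M : Set Γ)) (Subgroup.normal_inf_normal _ _) inf_le_left
        ⟨g, ⟨hgR, Subgroup.mem_centralizer_iff.mpr fun m hm => (hgM m hm).symm⟩, hgns⟩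
    haveI := hYn
    have hMY : ∀ m ∈ M, ∀ y ∈ Y, Commute m y := fun m hm y hy =>
      Subgroup.mem_centralizer_iff.mp (hYle hy).2 m hm
    have hmem : ∀ x ∈ M ⊔ Y, ∃ m ∈ M, ∃ y ∈ Y, m * y = x := fun x hx =>
      Subgroup.mem_sup_of_normal_left.mp hx
    have hle : M ⊔ Y ≤ M := hM.2
      ⟨Subgroup.sup_normal M Y, sup_le hMR (hYle.trans inf_le_left), ⟨fun g hg h hh => by
        obtain ⟨m, hm, y, hy, rfl⟩ := hmem g hg
        obtain ⟨m', hm', y', hy', rfl⟩ := hmem h hh
        have k1 : Commute y m' := (hMY m' hm' y hy).symm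
        have k2 : Commute m y' := hMY m hm y' hy'
        rcases hMc.comm m hm m' hm' with H | H <;> rcases hYc.comm y hy y' hy' with H' | H'
        · exact Or.inl ((H.mul_left k1).mul_right (k2.mul_left H'))
        · exact Or.inr (commute_mul_anti (H.mul_left k1).symm
            (commute_mul_anti k2 H').symm).symm
        · exact Or.inr ((H.mul_commute k1).symm.mul_commute (k2.mul_left H').symm).symm
        · exact Or.inl ((H.mul_commute k1).symm.mul_anti hC (commute_mul_anti k2 H').symm).symm,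
        fun g hg => by
        obtain ⟨m, hm, y, hy, rfl⟩ := hmem g hg
        rw [show m * y * (m * y) = (m * m) * (y * y) by
          rw [mul_assoc, ← mul_assoc y m, (hMY m hm y hy).eq.symm]; group]
        exact (scalars σ).mul_mem (hMc.sq m hm) (hYc.sq y hy)⟩,
        hMns.imp fun x hx => ⟨Subgroup.mem_sup_left hx.1, hx.2⟩⟩ le_sup_left
    obtain ⟨y, hy, hy'⟩ := hYns
    exact hy' (hcen M hMn hMR y (hle (Subgroup.mem_sup_right hy)) fun m hm =>
      (hMY m hm y hy).symm.eq)
  -- partners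
  have hpartner : ∀ g ∈ M, ¬ Scalar σ g → ∃ h ∈ M, Anti σ g h := fun g hg hgs => by
    by_contra hcon
    push Not at hcon
    exact hgs (hcen M hMn hMR g hg fun h hh => ((hMc.comm g hg h hh).resolve_right (hcon h hh)).eq)
  obtain ⟨x₀, hx₀, hx₀'⟩ := hMns
  obtain ⟨y₀, hy₀, hxy₀⟩ := hpartner x₀ hx₀ hx₀'
  obtain ⟨z, hzM, hzs⟩ : ∃ z ∈ M, σ z = -1 := by
    refine ⟨x₀ * y₀ * x₀⁻¹ * y₀⁻¹, M.mul_mem (M.mul_mem (M.mul_mem hx₀ hy₀) (M.inv_mem hx₀))
      (M.inv_mem hy₀), ?_⟩
    calc σ (x₀ * y₀ * x₀⁻¹ * y₀⁻¹) = σ (x₀ * y₀) * σ (y₀ * x₀)⁻¹ := by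
          rw [← map_mul]; congr 1; group
      _ = -1 := by rw [hxy₀, neg_mul, ← map_mul, mul_inv_cancel, map_one]
  have hzc : ∀ g, Commute g z := fun g => (Scalar.comm hC (Or.inr hzs) g).symm
  have hscM : ∀ g, Scalar σ g → g = 1 ∨ g = z := fun g hg => hg.elim
    (fun h => Or.inl (hC.inj (h.trans (map_one σ).symm))) (fun h => Or.inr (hC.inj (h.trans hzs.symm)))
  have hsM : scalars σ ≤ M := fun g hg => by
    rcases hscM g hg with rfl | rfl
    · exact M.one_mem
    · exact hzM
  have hz1 : z ≠ 1 := fun h => neg_one_ne_one_end (V := V) (by rw [← hzs, h, map_one])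
  have hzz : z * z = 1 := hC.inj (by rw [map_mul, hzs, map_one]; simp)
  -- b acting on normal subgroups of M
  have hbne : ∀ X : Subgroup Γ, X.Normal → X ≤ M → (∃ x ∈ X, ¬ Scalar σ x) →
      ∃ x ∈ X, ¬ CA σ b x := by
    intro X hX hXM ⟨x, hx, hx'⟩
    by_contra hcon
    push Not at hcon
    have hbc : ∀ u ∈ X, Commute b u := fun u hu => (hcon u hu).resolve_right fun H => by
      have e : b * u * b⁻¹ = z * u := hC.inj (by
        rw [map_mul, show σ (b * u) = _ from H, neg_mul, ← map_mul, mul_inv_cancel_right, map_mul,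
          hzs, neg_mul, one_mul])
      have hzb : b * z * b⁻¹ = z := by rw [(hzc b).eq, mul_inv_cancel_right]
      have e3 : u = z * z * z * u := by
        calc u = (b * (b * b)) * u * (b * (b * b))⁻¹ := by rw [hb3, one_mul, inv_one, mul_one]
          _ = b * (b * (b * u * b⁻¹) * b⁻¹) * b⁻¹ := by group
          _ = b * (b * (z * u) * b⁻¹) * b⁻¹ := by rw [e]
          _ = b * ((b * z * b⁻¹) * (b * u * b⁻¹)) * b⁻¹ := by group
          _ = b * (z * (z * u)) * b⁻¹ := by rw [hzb, e]
          _ = (b * z * b⁻¹) * (b * z * b⁻¹) * (b * u * b⁻¹) := by group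
          _ = z * z * z * u := by rw [hzb, e]; group
      rw [hzz, one_mul] at e3
      exact hz1 (mul_eq_right.mp e3.symm)
    haveI := hX
    have hRX : R ≤ Subgroup.centralizer (X : Set Γ) := hC.gen.trans ((Subgroup.closure_le _).mpr
      fun g ⟨r, _, hg⟩ => by
        have hb : b ∈ Subgroup.centralizer (X : Set Γ) :=
          Subgroup.mem_centralizer_iff.mpr fun u hu => (hbc u hu).symm.eq
        rw [hg]
        exact Subgroup.mul_mem _ ((Subgroup.Normal.conj_mem inferInstance b hb r))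
          (Subgroup.inv_mem _ hb))
    exact hx' (hcen X hX (hXM.trans hMR) x hx fun u hu =>
      (Subgroup.mem_centralizer_iff.mp (hRX (hMR (hXM hx))) u hu).symm)
  -- dimension at most four
  have hdim : finrank (ZMod 3) V ≤ 4 := by
    obtain ⟨w, hw, hwb⟩ := hbne M hMn le_rfl ⟨x₀, hx₀, hx₀'⟩
    set c := b * w * b⁻¹ * w⁻¹ with hc
    have hcM : c ∈ M := M.mul_mem (hMn.conj_mem w hw b) (M.inv_mem hw)
    have hcns : ¬ Scalar σ c := fun h => hwb ((scalar_iff_CA hC).mp h)
    rcases hMc.sq c hcM with hc2 | hc2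
    · -- an involution
      have hc2' : c * c = 1 := hC.inj (hc2.trans (map_one σ).symm)
      have hc' : b * c * b⁻¹ * (b * c * b⁻¹) = 1 := by
        calc b * c * b⁻¹ * (b * c * b⁻¹) = b * (c * c) * b⁻¹ := by group
          _ = 1 := by rw [hc2']; group
      have hc'' : b ^ 2 * c * (b ^ 2)⁻¹ * (b ^ 2 * c * (b ^ 2)⁻¹) = 1 := by
        calc b ^ 2 * c * (b ^ 2)⁻¹ * (b ^ 2 * c * (b ^ 2)⁻¹) = b ^ 2 * (c * c) * (b ^ 2)⁻¹ := by group
          _ = 1 := by rw [hc2']; group
      have hw3 : b * (b * (b * w * b⁻¹) * b⁻¹) * b⁻¹ = w := by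
        calc b * (b * (b * w * b⁻¹) * b⁻¹) * b⁻¹ = (b * (b * b)) * w * (b * (b * b))⁻¹ := by group
          _ = w := by rw [hb3, one_mul, inv_one, mul_one]
      have hp1 : b ^ 2 * c * (b ^ 2)⁻¹ * (b * c * b⁻¹) * c = 1 := by
        calc b ^ 2 * c * (b ^ 2)⁻¹ * (b * c * b⁻¹) * c
            = b * (b * (b * w * b⁻¹) * b⁻¹) * b⁻¹ * w⁻¹ := by rw [hc, pow_two]; group
          _ = 1 := by rw [hw3, mul_inv_cancel]
      have hp : c * (b * c * b⁻¹) * (b ^ 2 * c * (b ^ 2)⁻¹) = 1 := by
        have gen : ∀ p q r : Γ, p * p = 1 → q * q = 1 → r * r = 1 → r * q * p = 1 → p * q * r = 1 :=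
          fun p q r hp hq hr h => by
          calc p * q * r = p⁻¹ * q⁻¹ * r⁻¹ := by
                rw [inv_eq_of_mul_eq_one_right hp, inv_eq_of_mul_eq_one_right hq,
                  inv_eq_of_mul_eq_one_right hr]
            _ = (r * q * p)⁻¹ := by group
            _ = 1 := by rw [h, inv_one]
        exact gen _ _ _ hc2' hc' hc'' hp1
      have hcomm : c * (b * c * b⁻¹) = (b * c * b⁻¹) * c := by
        have h1 : c * (b * c * b⁻¹) = b ^ 2 * c * (b ^ 2)⁻¹ := by
          rw [eq_inv_of_mul_eq_one_left hp, inv_eq_of_mul_eq_one_right hc'']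
        have h2 : (b * c * b⁻¹) * c = b ^ 2 * c * (b ^ 2)⁻¹ := by
          rw [mul_assoc] at hp1
          rw [eq_inv_of_mul_eq_one_right hp1, inv_eq_of_mul_eq_one_right hc'']
        rw [h1, h2]
      have h4c : Four b R c :=
        ⟨hMR hcM, hc2', fun h => hcns (h ▸ Or.inl (map_one σ)), hcomm, hp⟩
      obtain ⟨-, hneg⟩ := h4c.negSp_facts hC
      obtain ⟨u, hu, hcu⟩ := hpartner c hcM hcns
      have hswap : ∀ v ∈ fixSp σ c, σ u v ∈ negSp σ c := fun v hv => by
        rw [mem_negSp, ← apply_mul, show σ (c * u) = _ from hcu, LinearMap.neg_apply, apply_mul,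
          mem_fixSp.mp hv]
      have hle : finrank (ZMod 3) (fixSp σ c) ≤ finrank (ZMod 3) (negSp σ c) :=
        LinearMap.finrank_le_finrank_of_injective
          (f := LinearMap.restrict (σ u) hswap) fun v v' h => Subtype.ext (by
            have e : σ u (v : V) = σ u (v' : V) := congrArg Subtype.val h
            rw [← inv_apply_apply (σ := σ) u (v : V), e, inv_apply_apply])
      have := Submodule.finrank_add_eq_of_isCompl (isCompl_fix_neg (σ := σ) hc2')
      omega
    · -- square minus one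
      set N := σ b - 1 with hN
      set d := w * b⁻¹ * w⁻¹ with hd
      have hrank : finrank (ZMod 3) (LinearMap.range N) = 2 := hC.rank2
      let U := LinearMap.range N ⊔ (LinearMap.range N).map (σ (w * b⁻¹))
      have hle : LinearMap.range (σ c - 1) ≤ U := by
        rintro _ ⟨v, rfl⟩
        have e : (σ c - 1) v = N (σ d v) + σ (w * b⁻¹) (-(N (σ w⁻¹ v))) := by
          have ec : c = b * d := by rw [hc, hd]; group
          have e1 : σ (w * b⁻¹) (σ b (σ w⁻¹ v)) = v := by
            rw [← apply_mul, ← apply_mul, show w * b⁻¹ * b * w⁻¹ = 1 by group, map_one]; rfl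
          have e2 : σ (w * b⁻¹) (σ w⁻¹ v) = σ d v := by rw [← apply_mul]
          simp only [hN, LinearMap.sub_apply, Module.End.one_apply, map_sub, map_neg, neg_sub]
          rw [ec, apply_mul, e1, e2]
          abel
        rw [e]
        exact Submodule.add_mem_sup (LinearMap.mem_range_self N _)
          ⟨_, Submodule.neg_mem _ (LinearMap.mem_range_self N _), rfl⟩
      have htop : (⊤ : Submodule (ZMod 3) V) ≤ LinearMap.range (σ c - 1) := by
        intro v _
        refine ⟨σ c v + v, ?_⟩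
        have hcc : σ c (σ c v) = -v := by rw [← apply_mul, hc2]; rfl
        simp only [LinearMap.sub_apply, Module.End.one_apply, map_add, hcc]
        have h3 := three_smul_eq_zero v
        calc -v - σ c v + (σ c v - v) = -(v + v + v) + v := by abel
          _ = v := by rw [h3, neg_zero, zero_add]
      have h1 := Submodule.finrank_mono (htop.trans hle)
      rw [finrank_top] at h1
      have h2 := Submodule.finrank_add_le_finrank_add_finrank (LinearMap.range N)
        ((LinearMap.range N).map (σ (w * b⁻¹)))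
      have h3 := Submodule.finrank_map_le (σ (w * b⁻¹)) (LinearMap.range N)
      have h1' : finrank (ZMod 3) V ≤ finrank (ZMod 3)
        ↥(LinearMap.range N ⊔ (LinearMap.range N).map (σ (w * b⁻¹))) := h1
      omega
  -- the quotient by scalars
  haveI : (scalars σ).Normal := ⟨fun t ht g => by
    rwa [← Scalar.comm hC ht g, mul_inv_cancel_right]⟩
  let qm := QuotientGroup.mk' (scalars σ)
  have hq1 : ∀ g, qm g = 1 ↔ Scalar σ g := fun g => QuotientGroup.eq_one_iff g
  have hqc : ∀ g h, qm (g * h * g⁻¹) = qm h ↔ CA σ g h := fun g h => by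
    rw [← scalar_iff_CA hC, ← hq1, map_mul qm (g * h * g⁻¹) h⁻¹, map_inv, mul_inv_eq_one]
  have hcard2 : ∀ X : Subgroup Γ, z ∈ X → Nat.card X = 2 * Nat.card (X.map qm) := by
    intro X hX
    let f : X →* Γ ⧸ scalars σ := qm.comp X.subtype
    have hk : Nat.card f.ker = 2 := by
      have e : (f.ker : Set X) = {1, ⟨z, hX⟩} := Set.ext fun g => by
        simp only [SetLike.mem_coe, MonoidHom.mem_ker, Set.mem_insert_iff, Set.mem_singleton_iff]
        show qm g.1 = 1 ↔ _
        rw [hq1]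
        constructor
        · intro h
          rcases hscM _ h with h' | h'
          · exact Or.inl (Subtype.ext h')
          · exact Or.inr (Subtype.ext h')
        · rintro (rfl | rfl)
          · exact Or.inl (map_one σ)
          · exact Or.inr hzs
      rw [← SetLike.coe_sort_coe, e, Nat.card_coe_set_eq,
        Set.ncard_pair (fun h => hz1 (congrArg Subtype.val h).symm)]
    have hr : f.range = X.map qm := by ext g; simp [f, Subgroup.mem_map]
    rw [← f.ker.card_mul_index, Subgroup.index_ker, hk, hr]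
  -- at most 32
  have h32 : Nat.card M ≤ 32 := by
    haveI : Fintype (M.map qm) := Fintype.ofFinite _
    have hpre : ∀ p : M.map qm, ∃ g ∈ M, qm g = (p : Γ ⧸ scalars σ) := fun p => p.2
    choose rep hrep hrep' using hpre
    have hinj : Function.Injective rep := fun p q h => Subtype.ext (by rw [← hrep' p, h, hrep' q])
    have h := sq_dim_bound (T := (Finset.univ : Finset (M.map qm)).image rep) hC hMc
      (fun t ht => by
        obtain ⟨p, -, rfl⟩ := Finset.mem_image.mp ht
        exact hrep p)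
      (fun s hs t ht hne => by
        obtain ⟨p, -, rfl⟩ := Finset.mem_image.mp hs
        obtain ⟨q, -, rfl⟩ := Finset.mem_image.mp ht
        by_contra hcon
        push Not at hcon
        have hs : Scalar σ ((rep p)⁻¹ * rep q) :=
          hcen M hMn hMR _ (M.mul_mem (M.inv_mem (hrep p)) (hrep q)) fun g hg => by
            refine (Commute.symm ?_).eq
            have hi := hcon g hg
            rcases hMc.comm g hg _ (hrep p) with H | H
            · exact H.inv_right.mul_right (hi.mp H)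
            · rcases hMc.comm g hg _ (hrep q) with H' | H'
              · exact absurd (hi.mpr H') (H.not_commute hC)
              · have e1 : Anti σ (rep p)⁻¹ g := by
                  have hp2 : Commute ((rep p) * (rep p))⁻¹ g := (Commute.symm
                    (Scalar.comm hC ((scalars σ).inv_mem (hMc.sq _ (hrep p))) g).symm)
                  have := H.symm.mul_commute hp2
                  rwa [mul_inv_rev, mul_inv_cancel_left] at this
                exact (e1.mul_anti hC H'.symm).symm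
        refine hne (congrArg rep (Subtype.ext ?_))
        rw [← hrep' p, ← hrep' q, ← inv_mul_eq_one, ← map_inv, ← map_mul, hq1]
        exact hs)
    rw [Finset.card_image_of_injective _ hinj, Finset.card_univ, ← Nat.card_eq_fintype_card] at h
    have h16 : finrank (ZMod 3) V * finrank (ZMod 3) V ≤ 16 := Nat.mul_le_mul hdim hdim
    rw [hcard2 M hzM]
    omega
  -- normal subgroups with a pair
  have hstruct : ∀ X : Subgroup Γ, X ≤ M → z ∈ X → ∀ x ∈ X, ∀ y ∈ X, Anti σ x y →
      Nat.card X = 4 * Nat.card ↥(X ⊓ Subgroup.centralizer {x, y}) ∧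
        z ∈ X ⊓ Subgroup.centralizer {x, y} := fun X hXM hzX x hx y hy hxy =>
    ⟨card_pair hC ⟨fun g hg h hh => hMc.comm g (hXM hg) h (hXM hh),
      fun g hg => hMc.sq g (hXM hg)⟩ hx hy hxy,
      hzX, Subgroup.mem_centralizer_iff.mpr fun t _ => (hzc t).eq⟩
  have hscal : ∀ X : Subgroup Γ, z ∈ X → (∀ g ∈ X, Scalar σ g) → Nat.card X = 2 := by
    intro X hX h
    have e : X.map qm = ⊥ := (Subgroup.eq_bot_iff_forall _).mpr fun g ⟨u, hu, e⟩ => by
      rw [← e]; exact (hq1 u).mpr (h u hu)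
    rw [hcard2 X hX, e, Subgroup.card_bot]
  have hpair2 : ∀ X : Subgroup Γ, X ≤ M → z ∈ X → ∀ x ∈ X, ∀ y ∈ X, Anti σ x y →
      ∀ u ∈ X ⊓ Subgroup.centralizer {x, y}, (∀ g ∈ X, ¬ Scalar σ g → ∃ h ∈ X, Anti σ g h) →
      ¬ Scalar σ u → ∃ v ∈ X ⊓ Subgroup.centralizer {x, y}, Anti σ u v := by
    intro X hXM hzX x hx y hy hxy u hu hp hus
    obtain ⟨h, hh, huh⟩ := hp u hu.1 hus
    obtain ⟨i, j, e1, e2⟩ := adjust hC hxy (hMc.comm h (hXM hh) x (hXM hx))
      (hMc.comm h (hXM hh) y (hXM hy))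
    refine ⟨sel i x * sel j y * h, ⟨X.mul_mem (X.mul_mem (sel_mem hx i) (sel_mem hy j)) hh,
      Subgroup.mem_centralizer_iff.mpr fun t ht => ?_⟩, ?_⟩
    · rcases ht with rfl | rfl
      · exact e1.symm.eq
      · exact e2.symm.eq
    · have hux : Commute x u := Subgroup.mem_centralizer_iff.mp hu.2 x (by simp)
      have huy : Commute y u := Subgroup.mem_centralizer_iff.mp hu.2 y (by simp)
      exact (commute_mul_anti ((commute_sel hux i).mul_left (commute_sel huy j)) huh.symm).symm
  -- acting by conjugation on the quotient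
  let φ : Γ →* Equiv.Perm (M.map qm) :=
    { toFun := fun g =>
        { toFun := fun p => ⟨qm g * p * (qm g)⁻¹, by
            obtain ⟨m, hm, e⟩ := p.2
            exact ⟨g * m * g⁻¹, hMn.conj_mem m hm g, by rw [map_mul, map_mul, map_inv, e]⟩⟩
          invFun := fun p => ⟨(qm g)⁻¹ * p * qm g, by
            obtain ⟨m, hm, e⟩ := p.2
            exact ⟨g⁻¹ * m * g⁻¹⁻¹, hMn.conj_mem m hm g⁻¹, by
              rw [inv_inv, map_mul, map_mul, map_inv, e]⟩⟩
          left_inv := fun p => Subtype.ext (by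
            show (qm g)⁻¹ * (qm g * p * (qm g)⁻¹) * qm g = p
            group)
          right_inv := fun p => Subtype.ext (by
            show qm g * ((qm g)⁻¹ * p * qm g) * (qm g)⁻¹ = p
            group) }
      map_one' := Equiv.ext fun p => Subtype.ext (by
        show qm 1 * p * (qm 1)⁻¹ = p
        rw [map_one, one_mul, inv_one, mul_one])
      map_mul' := fun g h => Equiv.ext fun p => Subtype.ext (by
        show qm (g * h) * p * (qm (g * h))⁻¹ = qm g * (qm h * p * (qm h)⁻¹) * (qm g)⁻¹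
        rw [map_mul]; group) }
  let cl : ∀ m ∈ M, M.map qm := fun m hm => ⟨qm m, Subgroup.mem_map_of_mem qm hm⟩
  have hφ : ∀ g m (hm : m ∈ M), φ g (cl m hm) = cl (g * m * g⁻¹) (hMn.conj_mem m hm g) :=
    fun g m hm => Subtype.ext (by
      show qm g * qm m * (qm g)⁻¹ = qm (g * m * g⁻¹)
      rw [map_mul, map_mul, map_inv])
  have hφfix : ∀ g m (hm : m ∈ M), φ g (cl m hm) = cl m hm ↔ CA σ g m := fun g m hm => by
    rw [hφ g m hm]
    exact ⟨fun h => (hqc g m).mp (congrArg Subtype.val h), fun h => Subtype.ext ((hqc g m).mpr h)⟩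
  have hsurj : ∀ p : M.map qm, ∃ m, ∃ hm : m ∈ M, p = cl m hm := fun ⟨p, m, hm, e⟩ =>
    ⟨m, hm, Subtype.ext e.symm⟩
  have hcl1 : ∀ m (hm : m ∈ M), cl m hm = 1 ↔ Scalar σ m := fun m hm => by
    rw [← hq1]; exact ⟨fun h => congrArg Subtype.val h, fun h => Subtype.ext h⟩
  -- on a normal subgroup of order eight
  have height : ∀ X : Subgroup Γ, X.Normal → X ≤ M → z ∈ X → Nat.card X = 8 →
      (∃ x ∈ X, ¬ Scalar σ x) → ∀ r ∈ R, ∀ x ∈ X, CA σ r x := by
    intro X hXn hXM hzX h8 hXns r hr x hx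
    let P := {p : M.map qm // (p : Γ ⧸ scalars σ) ∈ X.map qm}
    have hinv : ∀ g (p : P), ((φ g p.1 : M.map qm) : Γ ⧸ scalars σ) ∈ X.map qm := fun g p => by
      obtain ⟨u, hu, e⟩ := p.2
      exact ⟨g * u * g⁻¹, hXn.conj_mem u hu g, by
        show qm (g * u * g⁻¹) = qm g * _ * (qm g)⁻¹
        rw [map_mul, map_mul, map_inv, e]⟩
    let ψ : Γ →* Equiv.Perm P :=
      { toFun := fun g =>
          { toFun := fun p => ⟨φ g p.1, hinv g p⟩
            invFun := fun p => ⟨φ g⁻¹ p.1, hinv g⁻¹ p⟩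
            left_inv := fun p => Subtype.ext (by
              show φ g⁻¹ (φ g p.1) = p.1
              rw [map_inv]; exact (φ g).symm_apply_apply _)
            right_inv := fun p => Subtype.ext (by
              show φ g (φ g⁻¹ p.1) = p.1
              rw [map_inv]; exact (φ g).apply_symm_apply _) }
        map_one' := Equiv.ext fun p => Subtype.ext (by
          show φ 1 p.1 = p.1
          rw [map_one]; rfl)
        map_mul' := fun g h => Equiv.ext fun p => Subtype.ext (by
          show φ (g * h) p.1 = φ g (φ h p.1)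
          rw [map_mul]; rfl) }
    have hP : Nat.card P = 4 := by
      have := hcard2 X hzX
      have e : Nat.card P = Nat.card (X.map qm) := Nat.card_congr
        { toFun := fun p => ⟨_, p.2⟩
          invFun := fun p => ⟨⟨p.1, Subgroup.map_mono hXM p.2⟩, p.2⟩
          left_inv := fun p => rfl
          right_inv := fun p => rfl }
      omega
    let cP : ∀ u ∈ X, P := fun u hu => ⟨cl u (hXM hu), Subgroup.mem_map_of_mem qm hu⟩
    obtain ⟨w, hw, hwb⟩ := hbne X hXn hXM hXns
    set p := cP w hw with hp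
    have hp1 : ψ b p ≠ p := fun h => hwb ((hφfix b w (hXM hw)).mp (congrArg Subtype.val h))
    have hb3' : ∀ q, ψ b (ψ b (ψ b q)) = q := fun q => by
      rw [← Equiv.Perm.mul_apply, ← Equiv.Perm.mul_apply, ← map_mul, ← map_mul, mul_assoc, hb3,
        map_one]
      rfl
    have hp2 : ψ b (ψ b p) ≠ p := fun h => hp1 (by conv_rhs => rw [← hb3' p, h])
    have hp3 : ψ b (ψ b p) ≠ ψ b p := fun h => hp1 ((ψ b).injective h)
    set o : P := cP 1 X.one_mem with ho
    have hof : ∀ g, ψ g o = o := fun g =>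
      Subtype.ext ((hφfix g 1 M.one_mem).mpr (Or.inl (Commute.one_right g)))
    have hop : p ≠ o := fun h => hp1 (by rw [h, hof])
    haveI : Fintype P := Fintype.ofFinite P
    have hu4 : (Finset.univ : Finset P) = {o, p, ψ b p, ψ b (ψ b p)} :=
      (Finset.eq_univ_of_card _ (by
        rw [← Nat.card_eq_fintype_card, hP, Finset.card_insert_of_notMem,
          Finset.card_insert_of_notMem, Finset.card_pair (Ne.symm hp3)]
        · simp [Ne.symm hp1, Ne.symm hp2]
        · simp only [Finset.mem_insert, Finset.mem_singleton, not_or]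
          exact ⟨Ne.symm hop, fun h => hop ((ψ b).injective ((h.symm.trans (hof b).symm))),
            fun h => hop ((ψ b).injective ((ψ b).injective (h.symm.trans
              ((hof b).symm.trans (congrArg (ψ b) (hof b).symm)))))⟩)).symm
    have hmem4 : ∀ q : P, q = o ∨ q = p ∨ q = ψ b p ∨ q = ψ b (ψ b p) := fun q => by
      have hq : q ∈ ({o, p, ψ b p, ψ b (ψ b p)} : Finset P) := hu4 ▸ Finset.mem_univ q
      simpa using hq
    have htri : IsTri (ψ b) := ⟨p, hp1, hp2, hp3, hb3' p, fun q e1 e2 e3 => by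
      rcases hmem4 q with h | h | h | h
      · rw [h, hof]
      · exact absurd h e1
      · exact absurd h e2
      · exact absurd h e3⟩
    have h1 : ψ r = 1 := htri.fix_trivial (H := R.map ψ)
      (fun h => hC.odd3 (h.trans (Subgroup.card_dvd_of_surjective _ (ψ.subgroupMap_surjective R))))
      (Subgroup.mem_map_of_mem ψ hr)
      (fun h ⟨u, hu, e⟩ => ⟨b * u * b⁻¹, hC.normal.conj_mem u hu b, by
        rw [map_mul, map_mul, map_inv, e]⟩)
      fun q hq => by
        rcases hmem4 q with h | h | h | h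
        · rw [h, hof]
        · rw [h] at hq; exact absurd hq hp1
        · rw [h] at hq; exact absurd hq hp3
        · rw [h, hb3'] at hq; exact absurd hq.symm hp2
    exact (hφfix r x (hXM hx)).mp (congrArg Subtype.val (Equiv.ext_iff.mp h1 (cP x hx)))
  -- R is M: trivial action on the quotient suffices
  have hinner : (∀ r ∈ R, ∀ m ∈ M, CA σ r m) → R ≤ M := by
    intro hall r hr
    have hC0 := hstruct M le_rfl hzM x₀ hx₀ y₀ hy₀ hxy₀
    obtain ⟨i, j, e1, e2⟩ := adjust hC hxy₀ (hall r hr x₀ hx₀) (hall r hr y₀ hy₀)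
    set r₁ := sel i x₀ * sel j y₀ * r with hr₁
    have hs₁ : sel i x₀ * sel j y₀ ∈ M := M.mul_mem (sel_mem hx₀ i) (sel_mem hy₀ j)
    have hr₁R : r₁ ∈ R := R.mul_mem (hMR hs₁) hr
    suffices r₁ ∈ M from (M.mul_mem_cancel_left hs₁).mp this
    by_cases hCs : ∀ g ∈ M ⊓ Subgroup.centralizer {x₀, y₀}, Scalar σ g
    · refine hsM (hCM r₁ hr₁R fun m hm => ?_)
      obtain ⟨k, l, f1, f2⟩ := adjust hC hxy₀ (hMc.comm m hm x₀ hx₀) (hMc.comm m hm y₀ hy₀)
      have hc : Scalar σ (sel k x₀ * sel l y₀ * m) := hCs _ ⟨M.mul_mem (M.mul_mem (sel_mem hx₀ k)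
        (sel_mem hy₀ l)) hm, Subgroup.mem_centralizer_iff.mpr fun t ht => by
          rcases ht with rfl | rfl
          exacts [f1.symm.eq, f2.symm.eq]⟩
      have h1 : Commute r₁ (sel k x₀ * sel l y₀) :=
        ((commute_sel e1.symm k).mul_left (commute_sel e2.symm l)).symm
      have h2 : Commute r₁ ((sel k x₀ * sel l y₀)⁻¹ * (sel k x₀ * sel l y₀ * m)) :=
        h1.inv_right.mul_right (Scalar.comm hC hc r₁).symm
      rwa [inv_mul_cancel_left] at h2
    push Not at hCs
    obtain ⟨u, hu, hus⟩ := hCs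
    obtain ⟨v, hv, huv⟩ := hpair2 M le_rfl hzM x₀ hx₀ y₀ hy₀ hxy₀ u hu hpartner hus
    obtain ⟨k, l, g1, g2⟩ := adjust hC huv (hall r₁ hr₁R u hu.1) (hall r₁ hr₁R v hv.1)
    set r₂ := sel k u * sel l v * r₁ with hr₂
    have hs₂ : sel k u * sel l v ∈ M := M.mul_mem (sel_mem hu.1 k) (sel_mem hv.1 l)
    suffices r₂ ∈ M from (M.mul_mem_cancel_left hs₂).mp this
    have cx : Commute x₀ u ∧ Commute x₀ v ∧ Commute y₀ u ∧ Commute y₀ v :=
      ⟨Subgroup.mem_centralizer_iff.mp hu.2 x₀ (by simp),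
        Subgroup.mem_centralizer_iff.mp hv.2 x₀ (by simp),
        Subgroup.mem_centralizer_iff.mp hu.2 y₀ (by simp),
        Subgroup.mem_centralizer_iff.mp hv.2 y₀ (by simp)⟩
    have g3 : Commute r₂ x₀ :=
      ((commute_sel cx.1.symm k).mul_left (commute_sel cx.2.1.symm l)).mul_left e1
    have g4 : Commute r₂ y₀ :=
      ((commute_sel cx.2.2.1.symm k).mul_left (commute_sel cx.2.2.2.symm l)).mul_left e2
    refine hsM (hCM r₂ (R.mul_mem (hMR hs₂) hr₁R) fun m hm => ?_)
    obtain ⟨i', j', f1, f2⟩ := adjust hC hxy₀ (hMc.comm m hm x₀ hx₀) (hMc.comm m hm y₀ hy₀)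
    set m₁ := sel i' x₀ * sel j' y₀ * m with hm₁
    have hm₁' : m₁ ∈ M ⊓ Subgroup.centralizer {x₀, y₀} :=
      ⟨M.mul_mem (M.mul_mem (sel_mem hx₀ i') (sel_mem hy₀ j')) hm,
        Subgroup.mem_centralizer_iff.mpr fun t ht => by
          rcases ht with rfl | rfl
          exacts [f1.symm.eq, f2.symm.eq]⟩
    obtain ⟨k', l', q1, q2⟩ :=
      adjust hC huv (hMc.comm m₁ hm₁'.1 u hu.1) (hMc.comm m₁ hm₁'.1 v hv.1)
    set m₂ := sel k' u * sel l' v * m₁ with hm₂
    have hm₂' : Scalar σ m₂ := by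
      have hin : ∀ k l, sel k u * sel l v * m₁ ∈ M ⊓ Subgroup.centralizer {x₀, y₀} :=
        fun k l => Subgroup.mul_mem _ (Subgroup.mul_mem _ (sel_mem hu k) (sel_mem hv l)) hm₁'
      have hCc := card_pair hC (K := M ⊓ Subgroup.centralizer {x₀, y₀})
        ⟨fun g hg h hh => hMc.comm g hg.1 h hh.1, fun g hg => hMc.sq g hg.1⟩ hu hv huv
      by_contra hns
      -- a nonscalar element here makes M too large
      obtain ⟨m₃, hm₃, h23⟩ := hpair2 (M ⊓ Subgroup.centralizer {x₀, y₀}) inf_le_left hC0.2 u hu v hv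
        huv m₂ ⟨hin k' l', Subgroup.mem_centralizer_iff.mpr fun t ht => by
          rcases ht with rfl | rfl
          exacts [q1.symm.eq, q2.symm.eq]⟩
        (fun g hg hgs => by
          obtain ⟨h, hh, hgh⟩ := hpartner g hg.1 hgs
          obtain ⟨i, j, d1, d2⟩ := adjust hC hxy₀ (hMc.comm h hh x₀ hx₀) (hMc.comm h hh y₀ hy₀)
          have c1 : Commute x₀ g := Subgroup.mem_centralizer_iff.mp hg.2 x₀ (by simp)
          have c2 : Commute y₀ g := Subgroup.mem_centralizer_iff.mp hg.2 y₀ (by simp)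
          exact ⟨sel i x₀ * sel j y₀ * h, ⟨M.mul_mem (M.mul_mem (sel_mem hx₀ i) (sel_mem hy₀ j)) hh,
            Subgroup.mem_centralizer_iff.mpr fun t ht => by
              rcases ht with rfl | rfl
              exacts [d1.symm.eq, d2.symm.eq]⟩,
            (commute_mul_anti ((commute_sel c1 i).mul_left (commute_sel c2 j)) hgh.symm).symm⟩)
        hns
      have hCc2 := card_pair hC
        (K := M ⊓ Subgroup.centralizer {x₀, y₀} ⊓ Subgroup.centralizer {u, v})
        ⟨fun g hg h hh => hMc.comm g hg.1.1 h hh.1.1, fun g hg => hMc.sq g hg.1.1⟩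
        (x := m₂) (y := m₃) ⟨hin k' l', Subgroup.mem_centralizer_iff.mpr fun t ht => by
          rcases ht with rfl | rfl
          exacts [q1.symm.eq, q2.symm.eq]⟩ hm₃ h23
      have hz' : z ∈ M ⊓ Subgroup.centralizer {x₀, y₀} ⊓ Subgroup.centralizer {u, v} ⊓
          Subgroup.centralizer {m₂, m₃} :=
        ⟨⟨hC0.2, Subgroup.mem_centralizer_iff.mpr fun t _ => (hzc t).eq⟩,
          Subgroup.mem_centralizer_iff.mpr fun t _ => (hzc t).eq⟩
      have := hcard2 _ hz'
      have hpos : 0 < Nat.card ((M ⊓ Subgroup.centralizer {x₀, y₀} ⊓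
          Subgroup.centralizer {u, v} ⊓ Subgroup.centralizer {m₂, m₃}).map qm) := Nat.card_pos
      have h1 := hC0.1
      omega
    have hr2 : Commute r₂ (sel k' u * sel l' v) :=
      ((commute_sel g1.symm k').mul_left (commute_sel g2.symm l')).symm
    have hr1 : Commute r₂ (sel i' x₀ * sel j' y₀) :=
      ((commute_sel g3.symm i').mul_left (commute_sel g4.symm j')).symm
    have h2 : Commute r₂ ((sel i' x₀ * sel j' y₀)⁻¹ * ((sel k' u * sel l' v)⁻¹ * m₂)) :=
      hr1.inv_right.mul_right (hr2.inv_right.mul_right (Scalar.comm hC hm₂' r₂).symm)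
    rwa [hm₂, inv_mul_cancel_left, hm₁, inv_mul_cancel_left] at h2
  -- finishing when R = M
  have hfinish : R ≤ M → False := by
    intro hRM
    set a' := b * a * b⁻¹ with ha'
    let K := Subgroup.closure ({a, a', z} : Set Γ)
    have hgen : ∀ g, (g * a * g⁻¹ ∈ K ∧ g * a' * g⁻¹ ∈ K) → ∀ x ∈ K, g * x * g⁻¹ ∈ K := by
      intro g ⟨hg1, hg2⟩ x hx
      have : K ≤ K.comap (MulAut.conj g).toMonoidHom := (Subgroup.closure_le _).mpr fun t ht => by
        rcases ht with ht | ht | ht <;> rw [ht]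
        · exact hg1
        · exact hg2
        · show g * z * g⁻¹ ∈ K
          rw [(hzc g).eq, mul_inv_cancel_right]
          exact Subgroup.subset_closure (by simp)
      exact this hx
    have haK : a ∈ K := Subgroup.subset_closure (by simp)
    have ha'K : a' ∈ K := Subgroup.subset_closure (by simp)
    have hzK : z ∈ K := Subgroup.subset_closure (by simp)
    have hKn : K.Normal := by
      refine ⟨fun x hx g => ?_⟩
      obtain ⟨r, hr, i, rfl⟩ := hC.decomp g
      have hbK : ∀ i : ℕ, ∀ x ∈ K, b ^ i * x * (b ^ i)⁻¹ ∈ K := by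
        intro i
        induction i with
        | zero => simp
        | succ i ih =>
          intro x hx
          rw [show b ^ (i + 1) * x * (b ^ (i + 1))⁻¹ = b * (b ^ i * x * (b ^ i)⁻¹) * b⁻¹ by
            rw [pow_succ']; group]
          refine hgen b ⟨ha'K, ?_⟩ _ (ih x hx)
          have h := h4.prod
          have e : b * a' * b⁻¹ = b ^ 2 * a * (b ^ 2)⁻¹ := by rw [ha', pow_two]; group
          rw [e, eq_inv_of_mul_eq_one_right h]
          exact K.inv_mem (K.mul_mem haK ha'K)
      have hrK : ∀ y ∈ K, r * y * r⁻¹ ∈ K := by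
        have hstep : ∀ t ∈ K, t ∈ M → r * t * r⁻¹ ∈ K := fun t ht htM => by
          rw [show r * t * r⁻¹ = (r * t * r⁻¹ * t⁻¹) * t by group]
          refine K.mul_mem ?_ ht
          rcases hscM _ ((scalar_iff_CA hC).mpr (hMc.comm r (hRM hr) t htM)) with h | h <;> rw [h]
          · exact K.one_mem
          · exact hzK
        exact hgen r ⟨hstep a haK (hRM h4.mem),
          hstep a' ha'K (hMn.conj_mem a (hRM h4.mem) b)⟩
      rw [show r * b ^ i * x * (r * b ^ i)⁻¹ = r * (b ^ i * x * (b ^ i)⁻¹) * r⁻¹ by group]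
      exact hrK _ (hbK i x hx)
    have hKR : K ≤ R := (Subgroup.closure_le _).mpr fun t ht => by
      rcases ht with ht | ht | ht <;> rw [ht]
      exacts [h4.mem, hC.normal.conj_mem a h4.mem b, hMR hzM]
    have hKab : ∀ x ∈ K, ∀ y ∈ K, x * y = y * x := by
      intro x hx y hy
      induction hx, hy using Subgroup.closure_induction₂ with
      | mem x y hx hy =>
        rcases hx with hx | hx | hx <;> rcases hy with hy | hy | hy <;> rw [hx, hy] <;>
          first | rfl | exact h4.comm | exact h4.comm.symm | exact (hzc _).eq | exact (hzc _).symm.eq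
      | one_left x => simp
      | one_right x => simp
      | mul_left x y w _ _ _ h1 h2 => rw [mul_assoc, h2, ← mul_assoc, h1, mul_assoc]
      | mul_right x y w _ _ _ h1 h2 => rw [← mul_assoc, h1, mul_assoc, h2, mul_assoc]
      | inv_left x y _ _ h => exact (Commute.inv_left h).eq
      | inv_right x y _ _ h => exact (Commute.inv_right h).eq
    exact haR (hsc K hKn hKR hKab a haK)
  -- small M
  obtain ⟨hM0, hzC0⟩ := hstruct M le_rfl hzM x₀ hx₀ y₀ hy₀ hxy₀
  by_cases hCs : ∀ g ∈ M ⊓ Subgroup.centralizer {x₀, y₀}, Scalar σ g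
  · rw [hscal _ hzC0 hCs] at hM0
    exact hfinish (hinner (height M hMn le_rfl hzM hM0 ⟨x₀, hx₀, hx₀'⟩))
  push Not at hCs
  obtain ⟨u₀, hu₀, hu₀'⟩ := hCs
  obtain ⟨v₀, hv₀, huv₀⟩ := hpair2 M le_rfl hzM x₀ hx₀ y₀ hy₀ hxy₀ u₀ hu₀ hpartner hu₀'
  have hM32 : Nat.card M = 32 := by
    have h1 := card_pair hC (K := M ⊓ Subgroup.centralizer {x₀, y₀})
      ⟨fun g hg h hh => hMc.comm g hg.1 h hh.1, fun g hg => hMc.sq g hg.1⟩ hu₀ hv₀ huv₀
    have h2 := hcard2 (M ⊓ Subgroup.centralizer {x₀, y₀} ⊓ Subgroup.centralizer {u₀, v₀})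
      ⟨hzC0, Subgroup.mem_centralizer_iff.mpr fun t _ => (hzc t).eq⟩
    have h3 : 0 < Nat.card ((M ⊓ Subgroup.centralizer {x₀, y₀} ⊓
      Subgroup.centralizer {u₀, v₀}).map qm) := Nat.card_pos
    omega
  by_cases hred : ∃ X : Subgroup Γ, X.Normal ∧ X ≤ M ∧ z ∈ X ∧ (∃ x ∈ X, ¬ Scalar σ x) ∧ X ≠ M
  · obtain ⟨X, hXn, hXM, hzX, ⟨x, hx, hx'⟩, hXne⟩ := hred
    haveI := hXn
    obtain ⟨y, hy, hxy⟩ : ∃ y ∈ X, Anti σ x y := by
      by_contra hcon
      push Not at hcon
      exact hx' (hcen X hXn (hXM.trans hMR) x hx fun y hy =>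
        ((hMc.comm x (hXM hx) y (hXM hy)).resolve_right (hcon y hy)).eq)
    obtain ⟨hX0, hzCX⟩ := hstruct X hXM hzX x hx y hy hxy
    have hXlt : Nat.card X < 32 := by
      rw [← hM32]
      exact lt_of_not_ge fun h => hXne (Subgroup.eq_of_le_of_card_ge hXM h)
    have hX8 : Nat.card X = 8 := by
      by_cases hs : ∀ g ∈ X ⊓ Subgroup.centralizer {x, y}, Scalar σ g
      · rw [hscal _ hzCX hs] at hX0; exact hX0
      · exfalso
        push Not at hs
        obtain ⟨u, hu, hus⟩ := hs
        obtain ⟨v, hv, huv⟩ := hpair2 X hXM hzX x hx y hy hxy u hu (fun g hg hgs => by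
          by_contra hcon
          push Not at hcon
          exact hgs (hcen X hXn (hXM.trans hMR) g hg fun h hh =>
            ((hMc.comm g (hXM hg) h (hXM hh)).resolve_right (hcon h hh)).eq)) hus
        have h1 := card_pair hC (K := X ⊓ Subgroup.centralizer {x, y})
          ⟨fun g hg h hh => hMc.comm g (hXM hg.1) h (hXM hh.1), fun g hg => hMc.sq g (hXM hg.1)⟩
          hu hv huv
        have h2 := hcard2 (X ⊓ Subgroup.centralizer {x, y} ⊓ Subgroup.centralizer {u, v})
          ⟨hzCX, Subgroup.mem_centralizer_iff.mpr fun t _ => (hzc t).eq⟩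
        have h3 : 0 < Nat.card ((X ⊓ Subgroup.centralizer {x, y} ⊓
          Subgroup.centralizer {u, v}).map qm) := Nat.card_pos
        omega
    -- the centraliser
    let C := M ⊓ Subgroup.centralizer (X : Set Γ)
    have hCeq : C = M ⊓ Subgroup.centralizer {x, y} := by
      refine le_antisymm (inf_le_inf_left _ (Subgroup.centralizer_le ?_)) fun g hg => ⟨hg.1, ?_⟩
      · intro t ht
        rcases ht with rfl | rfl
        exacts [hx, hy]
      · refine Subgroup.mem_centralizer_iff.mpr fun t ht => ?_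
        obtain ⟨i, j, f1, f2⟩ := adjust hC hxy (hMc.comm t (hXM ht) x (hXM hx))
          (hMc.comm t (hXM ht) y (hXM hy))
        have hs : Scalar σ (sel i x * sel j y * t) := by
          by_contra hns
          have hsing : Nat.card ↥(X ⊓ Subgroup.centralizer {x, y}) = 2 := by omega
          have h4' := hcard2 _ hzCX
          rw [hsing] at h4'
          have hbot : (X ⊓ Subgroup.centralizer {x, y}).map qm = ⊥ :=
            Subgroup.card_eq_one.mp (by omega)
          refine hns ((hq1 _).mp ((Subgroup.mem_bot).mp (hbot ▸ Subgroup.mem_map_of_mem qm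
            (show _ ∈ X ⊓ Subgroup.centralizer {x, y} from ⟨X.mul_mem (X.mul_mem (sel_mem hx i)
            (sel_mem hy j)) ht, Subgroup.mem_centralizer_iff.mpr fun s hs => ?_⟩))))
          rcases hs with rfl | rfl
          exacts [f1.symm.eq, f2.symm.eq]
        have c1 : Commute x g := Subgroup.mem_centralizer_iff.mp hg.2 x (by simp)
        have c2 : Commute y g := Subgroup.mem_centralizer_iff.mp hg.2 y (by simp)
        have h2 : Commute ((sel i x * sel j y)⁻¹ * (sel i x * sel j y * t)) g :=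
          ((commute_sel c1 i).mul_left (commute_sel c2 j)).inv_left.mul_left
            (Scalar.comm hC hs g)
        rw [inv_mul_cancel_left] at h2
        exact h2.eq
    have hM1 := (hstruct M le_rfl hzM x (hXM hx) y (hXM hy) hxy).1
    rw [← hCeq, hM32] at hM1
    have hzCm : z ∈ C := ⟨hzM, Subgroup.mem_centralizer_iff.mpr fun t _ => (hzc t).eq⟩
    have hCns : ∃ c ∈ C, ¬ Scalar σ c := by
      by_contra hcon
      push Not at hcon
      have := hscal C hzCm hcon
      omega
    have hX' := height X hXn hXM hzX hX8 ⟨x, hx, hx'⟩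
    have hC' := height C (Subgroup.normal_inf_normal _ _) inf_le_left hzCm (by omega) hCns
    refine hfinish (hinner fun r hr m hm => ?_)
    obtain ⟨i, j, f1, f2⟩ := adjust hC hxy (hMc.comm m hm x (hXM hx)) (hMc.comm m hm y (hXM hy))
    have hc : sel i x * sel j y * m ∈ C := hCeq ▸ ⟨M.mul_mem (M.mul_mem (sel_mem (hXM hx) i)
      (sel_mem (hXM hy) j)) hm, Subgroup.mem_centralizer_iff.mpr fun t ht => by
        rcases ht with rfl | rfl
        exacts [f1.symm.eq, f2.symm.eq]⟩
    have hs1 : (sel i x * sel j y)⁻¹ ∈ X := X.inv_mem (X.mul_mem (sel_mem hx i) (sel_mem hy j))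
    have hmul : CA σ r ((sel i x * sel j y)⁻¹ * (sel i x * sel j y * m)) := by
      rw [← hqc, show r * ((sel i x * sel j y)⁻¹ * (sel i x * sel j y * m)) * r⁻¹ =
        (r * (sel i x * sel j y)⁻¹ * r⁻¹) * (r * (sel i x * sel j y * m) * r⁻¹) by group,
        map_mul qm (r * _ * r⁻¹), (hqc _ _).mpr (hX' r hr _ hs1), (hqc _ _).mpr (hC' r hr _ hc),
        ← map_mul]
    rwa [inv_mul_cancel_left] at hmul
  -- the irreducible case
  push Not at hred
  refine hfinish (hinner fun r hr m hm => (hφfix r m hm).mp ?_)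
  suffices hR : ∀ r ∈ R, φ r = 1 by rw [hR r hr]; rfl
  by_contra hcon
  push Not at hcon
  let T : Set (Subgroup Γ) := {N | N.Normal ∧ N ≤ R ∧ ∃ g ∈ N, φ g ≠ 1}
  obtain ⟨N, hN⟩ := Set.Finite.exists_minimal (Set.toFinite T) ⟨R, hC.normal, le_rfl, hcon⟩
  obtain ⟨hNn, hNR, hNne⟩ := hN.1
  haveI := hNn
  have hNbot : N ≠ ⊥ := fun h => by
    obtain ⟨g, hg, hg'⟩ := hNne
    rw [h, Subgroup.mem_bot] at hg
    exact hg' (by rw [hg, map_one])
  haveI : Group.IsSolvable N := inferInstance
  have hNlt : ⁅N, N⁆ < N := Group.IsSolvable.commutator_lt_of_ne_bot hNbot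
  have hAab : ∀ g ∈ N, ∀ h ∈ N, φ g * φ h = φ h * φ g := fun g hg h hh => by
    have h1 : φ ⁅g, h⁆ = 1 := by
      by_contra hne
      exact hNlt.ne (le_antisymm hNlt.le (hN.2 ⟨inferInstance, hNlt.le.trans hNR, _,
        Subgroup.commutator_mem_commutator hg hh, hne⟩ hNlt.le))
    rw [commutatorElement_def, map_mul, map_mul, map_mul, map_inv, map_inv] at h1
    rwa [mul_inv_eq_one, mul_inv_eq_iff_eq_mul] at h1
  have hφmul : ∀ g (p q : M.map qm), φ g (p * q) = φ g p * φ g q := fun g p q => Subtype.ext (by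
    show qm g * ((p : Γ ⧸ scalars σ) * q) * (qm g)⁻¹ = (qm g * p * (qm g)⁻¹) * (qm g * q * (qm g)⁻¹)
    group)
  have hM16 : Nat.card (M.map qm) = 16 := by have := hcard2 M hzM; omega
  haveI : Fintype (M.map qm) := Fintype.ofFinite _
  -- fixed subgroups
  let Fx : Set Γ → Subgroup Γ := fun S =>
    { carrier := {m | m ∈ M ∧ ∀ g ∈ S, CA σ g m}
      one_mem' := ⟨M.one_mem, fun g _ => Or.inl (Commute.one_right g)⟩
      mul_mem' := fun {u v} hu hv => ⟨M.mul_mem hu.1 hv.1, fun g hg => (hqc g _).mp (by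
        rw [show g * (u * v) * g⁻¹ = (g * u * g⁻¹) * (g * v * g⁻¹) by group, map_mul qm (g * u * g⁻¹),
          (hqc g u).mpr (hu.2 g hg), (hqc g v).mpr (hv.2 g hg), ← map_mul])⟩
      inv_mem' := fun {u} hu => ⟨M.inv_mem hu.1, fun g hg => (hqc g _).mp (by
        rw [show g * u⁻¹ * g⁻¹ = (g * u * g⁻¹)⁻¹ by group, map_inv qm (g * u * g⁻¹),
          (hqc g u).mpr (hu.2 g hg), ← map_inv])⟩ }
  have hirr : ∀ p : M.map qm, p ≠ 1 → ¬ ∀ g ∈ N, φ g p = p := by
    intro p hp1 hfix
    obtain ⟨m, hm, rfl⟩ := hsurj p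
    have hFn : (Fx (N : Set Γ)).Normal := ⟨fun u hu g => ⟨hMn.conj_mem u hu.1 g, fun k hk => by
      refine (hqc k _).mp ?_
      rw [show k * (g * u * g⁻¹) * k⁻¹ = g * ((g⁻¹ * k * g) * u * (g⁻¹ * k * g)⁻¹) * g⁻¹ by group]
      have hk' : g⁻¹ * k * g ∈ N := by simpa using hNn.conj_mem k hk g⁻¹
      rw [map_mul qm (g * _), map_mul qm g, (hqc _ u).mpr (hu.2 _ hk'), ← map_mul, ← map_mul]⟩⟩
    have heq : Fx (N : Set Γ) = M := hred _ hFn (fun u hu => hu.1)
      ⟨hzM, fun g _ => Or.inl (hzc g)⟩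
      ⟨m, ⟨hm, fun g hg => (hφfix g m hm).mp (hfix g hg)⟩, fun h => hp1 ((hcl1 m hm).mpr h)⟩
    obtain ⟨g, hg, hg'⟩ := hNne
    refine hg' (Equiv.ext fun q => ?_)
    obtain ⟨u, hu, rfl⟩ := hsurj q
    exact (hφfix g u hu).mpr (((heq.symm ▸ hu : u ∈ Fx (N : Set Γ))).2 g hg)
  let A := N.map φ
  have hAR : A ≤ R.map φ := Subgroup.map_mono hNR
  have h3R : ¬ 3 ∣ Nat.card (R.map φ) :=
    fun h => hC.odd3 (h.trans (Subgroup.card_dvd_of_surjective _ (φ.subgroupMap_surjective R)))
  -- A has no involution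
  have hA2 : ¬ 2 ∣ Nat.card A := by
    intro h2
    haveI : Fact (Nat.Prime 2) := ⟨Nat.prime_two⟩
    obtain ⟨⟨_, g, hg, rfl⟩, hord⟩ := exists_prime_orderOf_dvd_card' 2 h2
    rw [← Subgroup.orderOf_coe] at hord
    let N2 : Subgroup Γ :=
      { carrier := {k | k ∈ N ∧ φ k * φ k = 1}
        one_mem' := ⟨N.one_mem, by rw [map_one, one_mul]⟩
        mul_mem' := fun {u v} hu hv => ⟨N.mul_mem hu.1 hv.1, by
          rw [map_mul, mul_assoc, ← mul_assoc (φ v), ← hAab u hu.1 v hv.1, mul_assoc, hv.2,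
            mul_one, hu.2]⟩
        inv_mem' := fun {u} hu => ⟨N.inv_mem hu.1, by
          rw [map_inv, ← mul_inv_rev, hu.2, inv_one]⟩ }
    have hg2 : φ g * φ g = 1 := by rw [← pow_two, ← hord, pow_orderOf_eq_one]
    have hgne : φ g ≠ 1 := fun h => by simp [h] at hord
    have hN2n : N2.Normal := ⟨fun u hu k => ⟨hNn.conj_mem u hu.1 k, by
      rw [map_mul, map_mul, map_inv]
      calc φ k * φ u * (φ k)⁻¹ * (φ k * φ u * (φ k)⁻¹) = φ k * (φ u * φ u) * (φ k)⁻¹ := by group
        _ = 1 := by rw [hu.2]; group⟩⟩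
    have hN2le : N2 ≤ N := fun u hu => hu.1
    have hall : N ≤ N2 := hN.2 ⟨hN2n, hN2le.trans hNR, g, ⟨hg, hg2⟩, hgne⟩ hN2le
    have hp : IsPGroup 2 A := by
      rintro ⟨_, u, hu, rfl⟩
      exact ⟨1, Subtype.ext (by rw [pow_one, pow_two]; exact (hall hu).2)⟩
    have h := hp.card_modEq_card_fixedPoints (M.map qm)
    rw [hM16] at h
    have h1mem : (1 : M.map qm) ∈ MulAction.fixedPoints A (M.map qm) := fun k => by
      obtain ⟨_, u, hu, rfl⟩ := k
      show φ u 1 = 1
      exact mul_left_cancel (a := φ u 1) (by rw [← hφmul, one_mul, mul_one])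
    have hpos : 0 < Nat.card (MulAction.fixedPoints A (M.map qm)) :=
      Nat.card_pos_iff.mpr ⟨⟨⟨_, h1mem⟩⟩, inferInstance⟩
    have h2' : 1 < Nat.card (MulAction.fixedPoints A (M.map qm)) := by
      unfold Nat.ModEq at h; omega
    haveI := Finite.one_lt_card_iff_nontrivial.mp h2'
    obtain ⟨⟨p, hp'⟩, hpne⟩ :=
      exists_ne (⟨_, h1mem⟩ : MulAction.fixedPoints A (M.map qm))
    exact hirr p (fun h => hpne (Subtype.ext h)) fun u hu => hp' ⟨φ u, u, hu, rfl⟩
  have hA3 : ¬ 3 ∣ Nat.card A := fun h => h3R (h.trans (Subgroup.card_dvd_of_le hAR))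
  -- semiregular
  have hsemi : ∀ α ∈ A, ∀ p : M.map qm, p ≠ 1 → α p = p → α = 1 := by
    intro α hα p hp1 hfix
    by_contra hne
    have hpos := orderOf_pos α
    have hne1 : orderOf α ≠ 1 := fun h => hne (orderOf_eq_one_iff.mp h)
    obtain ⟨q, hq, hqd⟩ := Nat.exists_prime_and_dvd hne1
    set β := α ^ (orderOf α / q) with hβ
    have hβA : β ∈ A := A.pow_mem hα _
    have hβq : orderOf β = q := orderOf_pow_orderOf_div hpos.ne' hqd
    have hqA : q ∣ Nat.card A := hβq ▸ Subgroup.orderOf_dvd_natCard A hβA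
    have hβp : β p = p := Equiv.Perm.pow_apply_eq_self_of_apply_eq_self hfix _
    obtain ⟨g, hg, hgβ⟩ := hβA
    obtain ⟨x, hx, rfl⟩ := hsurj p
    have hxns : ¬ Scalar σ x := fun h => hp1 ((hcl1 x hx).mpr h)
    have hgx : CA σ g x := (hφfix g x hx).mp (by rw [hgβ]; exact hβp)
    haveI : Fact q.Prime := ⟨hq⟩
    have hpow : ∀ n (u : M.map qm), ((φ g) ^ n) u = φ (g ^ n) u := fun n u => by rw [map_pow]
    -- restricted permutations
    have hsub : ∀ (P : M.map qm → Prop), (∀ u, P u → P (φ g u)) →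
        ∃ τ : Equiv.Perm {u // P u}, (∀ u, (τ u : M.map qm) = φ g u.1) ∧ τ ^ q = 1 := by
      intro P hP
      have hiff : ∀ u, P (φ g u) ↔ P u := fun u => ⟨fun h => by
        have hn : ∀ n, P ((φ g ^ n) (φ g u)) := fun n => by
          induction n with
          | zero => exact h
          | succ n ih => rw [pow_succ', Equiv.Perm.mul_apply]; exact hP _ ih
        have := hn (q - 1)
        rwa [← Equiv.Perm.mul_apply, ← pow_succ, Nat.sub_add_cancel hq.one_le,
          show (φ g) ^ q = 1 by rw [hgβ, ← hβq, pow_orderOf_eq_one], Equiv.Perm.one_apply] at this,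
        hP u⟩
      refine ⟨(φ g).subtypePerm hiff, fun u => rfl, ?_⟩
      rw [Equiv.Perm.subtypePerm_pow]
      refine Equiv.ext fun u => Subtype.ext ?_
      show ((φ g) ^ q) u.1 = u.1
      rw [hgβ, ← hβq, pow_orderOf_eq_one]; rfl
    -- the anticommuting classes
    obtain ⟨y', hy', hxy'⟩ := hpartner x hx hxns
    let P : M.map qm → Prop := fun u => ∃ t, ∃ ht : t ∈ M, u = cl t ht ∧ Anti σ t x
    have hPinv : ∀ u, P u → P (φ g u) := by
      rintro _ ⟨t, ht, rfl, hta⟩
      refine ⟨g * t * g⁻¹, hMn.conj_mem t ht g, hφ g t ht, ?_⟩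
      rcases hMc.comm _ (hMn.conj_mem t ht g) x hx with H | H
      · exfalso
        have e : qm (g * x * g⁻¹) = qm x := (hqc g x).mpr hgx
        have hs : g⁻¹ * x * g = x ∨ g⁻¹ * x * g = z * x := by
          rcases hgx with G | G
          · left; rw [mul_assoc, ← G.eq, inv_mul_cancel_left]
          · right
            refine hC.inj ?_
            calc σ (g⁻¹ * x * g) = σ g⁻¹ * σ (x * g) := by rw [← map_mul, mul_assoc]
              _ = -σ x := by rw [G.symm, mul_neg, ← map_mul, inv_mul_cancel_left]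
              _ = σ (z * x) := by rw [map_mul, hzs, neg_mul, one_mul]
        have H' : Commute t (g⁻¹ * x * g) := by
          have h' := congrArg (fun v => g⁻¹ * v * g) H.eq
          calc t * (g⁻¹ * x * g) = g⁻¹ * (g * t * g⁻¹ * x) * g := by group
            _ = g⁻¹ * (x * (g * t * g⁻¹)) * g := h'
            _ = g⁻¹ * x * g * t := by group
        rcases hs with hs | hs <;> rw [hs] at H'
        · exact hta.not_commute hC H'
        · have := (hzc t).inv_right.mul_right H'
          rw [inv_mul_cancel_left] at this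
          exact hta.not_commute hC this
      · exact H
    obtain ⟨τ, hτ, hτq⟩ := hsub P hPinv
    have hcardP : Nat.card {u // P u} = 8 := by
      let Cx := M ⊓ Subgroup.centralizer {x}
      have hcx : ∀ t, t ∈ Cx ↔ t ∈ M ∧ Commute t x := fun t =>
        and_congr Iff.rfl Subgroup.mem_centralizer_singleton_iff
      have hzCx : z ∈ Cx := (hcx z).mpr ⟨hzM, (hzc x).symm⟩
      let Q := Cx.map qm
      -- translate by the partner
      have hy2 : Anti σ y' x := hxy'.symm
      have e1 : Nat.card {u // P u} = Nat.card Q := by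
        refine Nat.card_congr
          { toFun := fun u => ⟨(u.1 : Γ ⧸ scalars σ) * qm y', ?_⟩
            invFun := fun u => ⟨⟨(u : Γ ⧸ scalars σ) * (qm y')⁻¹, ?_⟩, ?_⟩
            left_inv := fun u => Subtype.ext (Subtype.ext (mul_inv_cancel_right _ _))
            right_inv := fun u => Subtype.ext (inv_mul_cancel_right _ _) }
        · obtain ⟨t, ht, e, hta⟩ := u.2
          exact ⟨t * y', (hcx _).mpr ⟨M.mul_mem ht hy', hta.mul_anti hC hy2⟩, by
            rw [map_mul, e]⟩
        · obtain ⟨t, ht, e⟩ := u.2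
          exact ⟨t * y'⁻¹, M.mul_mem ((hcx t).mp ht).1 (M.inv_mem hy'), by
            rw [map_mul, map_inv, e]⟩
        · obtain ⟨t, ht, e⟩ := u.2
          refine ⟨t * y'⁻¹, M.mul_mem ((hcx t).mp ht).1 (M.inv_mem hy'), Subtype.ext ?_, ?_⟩
          · show (u : Γ ⧸ scalars σ) * (qm y')⁻¹ = qm (t * y'⁻¹)
            rw [map_mul, map_inv, e]
          · have hyi : Anti σ y'⁻¹ x := by
              have hp2 : Commute (y' * y')⁻¹ x :=
                Scalar.comm hC ((scalars σ).inv_mem (hMc.sq y' hy')) x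
              have := hy2.mul_commute hp2
              rwa [mul_inv_rev, mul_inv_cancel_left] at this
            exact commute_mul_anti ((hcx t).mp ht).2 hyi
      have e2 : Nat.card M = 2 * Nat.card Cx := by
        let f : Bool × Cx → M := fun u =>
          ⟨(u.2 : Γ) * sel u.1 y', M.mul_mem u.2.2.1 (sel_mem hy' _)⟩
        have hf : Function.Bijective f := by
          constructor
          · rintro ⟨i, c⟩ ⟨i', c'⟩ h
            have h' : (c : Γ) * sel i y' = c' * sel i' y' := congrArg Subtype.val h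
            have hc1 := ((hcx _).mp c.2).2
            have hc2 := ((hcx _).mp c'.2).2
            cases i <;> cases i' <;> simp only [sel, if_true, Bool.false_eq_true, if_false, mul_one]
              at h'
            · exact Prod.ext rfl (Subtype.ext h')
            · exact absurd (h' ▸ hc1) ((commute_mul_anti hc2 hy2).not_commute hC)
            · exact absurd (h'.symm ▸ hc2) ((commute_mul_anti hc1 hy2).not_commute hC)
            · exact Prod.ext rfl (Subtype.ext (mul_right_cancel h'))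
          · rintro ⟨t, ht⟩
            rcases hMc.comm t ht x hx with H | H
            · exact ⟨(false, ⟨t, (hcx t).mpr ⟨ht, H⟩⟩), Subtype.ext (mul_one t)⟩
            · have hyi : Anti σ y'⁻¹ x := by
                have hp2 : Commute (y' * y')⁻¹ x :=
                  Scalar.comm hC ((scalars σ).inv_mem (hMc.sq y' hy')) x
                have := hy2.mul_commute hp2
                rwa [mul_inv_rev, mul_inv_cancel_left] at this
              exact ⟨(true, ⟨t * y'⁻¹,
                (hcx _).mpr ⟨M.mul_mem ht (M.inv_mem hy'), H.mul_anti hC hyi⟩⟩),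
                Subtype.ext (inv_mul_cancel_right t y')⟩
        rw [← Nat.card_eq_of_bijective f hf, Nat.card_prod]
        simp only [Nat.card_eq_fintype_card, Fintype.card_bool]
      have e3 := hcard2 Cx hzCx
      have e1' : Nat.card {u // P u} = Nat.card (Cx.map qm) := e1
      omega
    haveI : Fintype {u // P u} := Fintype.ofFinite _
    obtain ⟨⟨_, y, hy, rfl, hyx⟩, hyfix⟩ := Equiv.Perm.exists_fixed_point_of_prime (n := 1)
      (σ := τ) (by
        rw [← Nat.card_eq_fintype_card, hcardP, show (8 : ℕ) = 2 ^ 3 by norm_num]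
        intro h
        have := (Nat.prime_dvd_prime_iff_eq hq Nat.prime_two).mp (hq.dvd_of_dvd_pow h)
        exact hA2 (this ▸ hqA))
      (by rw [pow_one]; exact hτq)
    have hgy : CA σ g y := (hφfix g y hy).mp
      ((hτ _).symm.trans (congrArg Subtype.val hyfix))
    have hxy : Anti σ x y := hyx.symm
    obtain ⟨hM1, hzD⟩ := hstruct M le_rfl hzM x hx y hy hxy
    let D := M ⊓ Subgroup.centralizer {x, y}
    have hDinv : ∀ u : M.map qm, (u : Γ ⧸ scalars σ) ∈ D.map qm →
        ((φ g u : M.map qm) : Γ ⧸ scalars σ) ∈ D.map qm := by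
      intro u ⟨d, hd, e⟩
      refine ⟨g * d * g⁻¹, ⟨hMn.conj_mem d hd.1 g, Subgroup.mem_centralizer_iff.mpr fun t ht => ?_⟩,
        by show _ = qm g * _ * (qm g)⁻¹; rw [map_mul, map_mul, map_inv, e]⟩
      have htd : Commute d t := (Subgroup.mem_centralizer_iff.mp hd.2 t ht).symm
      have hgt : CA σ g t := by
        rcases ht with rfl | rfl
        exacts [hgx, hgy]
      have hs : Scalar σ (g * t * g⁻¹ * t⁻¹) := (scalar_iff_CA hC).mpr hgt
      have h1 : Commute (g * d * g⁻¹) (g * t * g⁻¹) := by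
        show _ * _ = _ * _
        rw [show g * d * g⁻¹ * (g * t * g⁻¹) = g * (d * t) * g⁻¹ by group, htd.eq]
        group
      have h2 : Commute (g * d * g⁻¹) ((g * t * g⁻¹ * t⁻¹)⁻¹ * (g * t * g⁻¹)) :=
        Commute.mul_right (Scalar.comm hC ((scalars σ).inv_mem hs) _).symm h1
      rw [show (g * t * g⁻¹ * t⁻¹)⁻¹ * (g * t * g⁻¹) = t by group] at h2
      exact h2.symm.eq
    obtain ⟨τ', hτ', hτ'q⟩ := hsub (fun u => (u : Γ ⧸ scalars σ) ∈ D.map qm) hDinv
    have hD4 : Nat.card {u : M.map qm // (u : Γ ⧸ scalars σ) ∈ D.map qm} = 4 := by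
      have := hcard2 D hzD
      have hM1' : Nat.card M = 4 * Nat.card D := hM1
      have e : Nat.card {u : M.map qm // (u : Γ ⧸ scalars σ) ∈ D.map qm} = Nat.card (D.map qm) :=
        Nat.card_congr
          { toFun := fun u => ⟨_, u.2⟩
            invFun := fun u => ⟨⟨u.1, Subgroup.map_mono inf_le_left u.2⟩, u.2⟩
            left_inv := fun u => rfl
            right_inv := fun u => rfl }
      omega
    have hτ1 : τ' = 1 := by
      have h1 : orderOf τ' ∣ q := orderOf_dvd_of_pow_eq_one hτ'q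
      have h2 : orderOf τ' ∣ 24 := by
        have := orderOf_dvd_natCard τ'
        rwa [Nat.card_perm, hD4] at this
      rcases (Nat.dvd_prime hq).mp h1 with h | h
      · exact orderOf_eq_one_iff.mp h
      · rw [h, show (24 : ℕ) = 2 ^ 3 * 3 by norm_num] at h2
        rcases hq.dvd_mul.mp h2 with h' | h'
        · exact absurd ((Nat.prime_dvd_prime_iff_eq hq Nat.prime_two).mp (hq.dvd_of_dvd_pow h') ▸ hqA)
            hA2
        · exact absurd ((Nat.prime_dvd_prime_iff_eq hq Nat.prime_three).mp h' ▸ hqA) hA3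
    have hg1 : φ g = 1 := Equiv.ext fun u => by
      obtain ⟨t, ht, rfl⟩ := hsurj u
      obtain ⟨i, j, f1, f2⟩ := adjust hC hxy (hMc.comm t ht x hx) (hMc.comm t ht y hy)
      set d := sel i x * sel j y * t with hd
      have hdD : d ∈ D := ⟨M.mul_mem (M.mul_mem (sel_mem hx i) (sel_mem hy j)) ht,
        Subgroup.mem_centralizer_iff.mpr fun s hs => by
          rcases hs with rfl | rfl
          exacts [f1.symm.eq, f2.symm.eq]⟩
      have hd' : φ g (cl d hdD.1) = cl d hdD.1 := by
        rw [← hτ' ⟨cl d hdD.1, Subgroup.mem_map_of_mem qm hdD⟩, hτ1]; rfl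
      have hs' : ∀ i j, CA σ g (sel i x * sel j y) := fun i j => by
        refine (hqc g _).mp ?_
        have hsel : ∀ (i : Bool) u, CA σ g u → qm (g * sel i u * g⁻¹) = qm (sel i u) := by
          intro i u hu
          cases i
          · show qm (g * 1 * g⁻¹) = qm 1
            rw [mul_one, mul_inv_cancel]
          · exact (hqc g u).mpr hu
        rw [show g * (sel i x * sel j y) * g⁻¹ = (g * sel i x * g⁻¹) * (g * sel j y * g⁻¹) by group,
          map_mul qm (g * sel i x * g⁻¹), hsel i x hgx, hsel j y hgy, ← map_mul]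
      refine (hφfix g t ht).mpr ((hqc g t).mp ?_)
      rw [show g * t * g⁻¹ = (g * (sel i x * sel j y) * g⁻¹)⁻¹ * (g * d * g⁻¹) by rw [hd]; group,
        map_mul qm (g * (sel i x * sel j y) * g⁻¹)⁻¹, map_inv qm (g * (sel i x * sel j y) * g⁻¹),
        (hqc g _).mpr (hs' i j), (hqc g d).mpr ((hφfix g d hdD.1).mp hd'), ← map_inv, ← map_mul,
        hd, inv_mul_cancel_left]
    rw [hg1] at hgβ
    rw [← hgβ, orderOf_one] at hβq
    exact hq.ne_one hβq.symm
  have hφone : ∀ g, φ g 1 = 1 := fun g =>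
    mul_left_cancel (a := φ g 1) (by rw [← hφmul, one_mul, mul_one])
  have h15 : Nat.card {p : M.map qm // p ≠ 1} = 15 := by
    rw [Nat.card_eq_fintype_card, Fintype.card_subtype_compl, Fintype.card_subtype_eq,
      ← Nat.card_eq_fintype_card, hM16]
  have hne1 : ∀ α ∈ R.map φ, ∀ p : M.map qm, p ≠ 1 → α p ≠ 1 := by
    rintro _ ⟨g, hg, rfl⟩ p hp h
    exact hp ((φ g).injective (h.trans (hφone g).symm))
  have hAne : Nat.card A ≠ 1 := fun h => by
    obtain ⟨g, hg, hg'⟩ := hNne
    exact hg' ((Subgroup.eq_bot_iff_forall _).mp (Subgroup.card_eq_one.mp h) (φ g)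
      ⟨g, hg, rfl⟩)
  have hA5 : Nat.card A = 5 := by
    have hd := card_dvd_of_free A (fun p => p ≠ 1) (fun α hα => hne1 α (hAR hα)) hsemi
    rw [h15] at hd
    have hmem : Nat.card A ∈ Nat.divisors 15 := Nat.mem_divisors.mpr ⟨hd, by norm_num⟩
    rw [show Nat.divisors 15 = {1, 3, 5, 15} by decide] at hmem
    simp only [Finset.mem_insert, Finset.mem_singleton] at hmem
    rcases hmem with h | h | h | h
    · exact absurd h hAne
    · exact absurd (h ▸ dvd_rfl) hA3
    · exact h
    · exact absurd (h ▸ (by norm_num : 3 ∣ 15)) hA3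
  -- the centraliser of A
  let CA' := R.map φ ⊓ Subgroup.centralizer (A : Set (Equiv.Perm (M.map qm)))
  have hCfree : ∀ γ ∈ CA', ∀ p : M.map qm, p ≠ 1 → γ p = p → γ = 1 := by
    intro γ hγ p hp hfix
    obtain ⟨⟨g, hg, rfl⟩, hcent⟩ := hγ
    let F : Subgroup (M.map qm) :=
      { carrier := {u | φ g u = u}
        one_mem' := hφone g
        mul_mem' := fun {u v} hu hv => by
          show φ g (u * v) = u * v
          rw [hφmul, show φ g u = u from hu, show φ g v = v from hv]
        inv_mem' := fun {u} hu => by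
          show φ g u⁻¹ = u⁻¹
          refine eq_inv_of_mul_eq_one_left ?_
          calc φ g u⁻¹ * u = φ g u⁻¹ * φ g u := by rw [show φ g u = u from hu]
            _ = 1 := by rw [← hφmul, inv_mul_cancel, hφone] }
    have hFinv : ∀ α ∈ A, ∀ u, u ≠ 1 ∧ φ g u = u → α u ≠ 1 ∧ φ g (α u) = α u := fun α hα u hu =>
      ⟨hne1 α (hAR hα) u hu.1, by
        rw [← Equiv.Perm.mul_apply, ← Subgroup.mem_centralizer_iff.mp hcent α hα,
          Equiv.Perm.mul_apply, hu.2]⟩
    have hd := card_dvd_of_free A (fun u => u ≠ 1 ∧ φ g u = u) hFinv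
      (fun α hα u hu => hsemi α hα u hu.1)
    rw [hA5] at hd
    have hFd : Nat.card F ∣ 16 := hM16 ▸ F.card_subgroup_dvd_card
    have hcnt : Nat.card {u // u ≠ 1 ∧ φ g u = u} + 1 = Nat.card F := by
      haveI : Fintype F := Fintype.ofFinite F
      rw [Nat.card_congr (show {u // u ≠ 1 ∧ φ g u = u} ≃ {u : F // u ≠ 1} from
        { toFun := fun u => ⟨⟨u.1, u.2.2⟩, fun h => u.2.1 (congrArg Subtype.val h)⟩
          invFun := fun u => ⟨u.1.1, fun h => u.2 (Subtype.ext h), u.1.2⟩
          left_inv := fun u => rfl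
          right_inv := fun u => rfl }), Nat.card_eq_fintype_card, Fintype.card_subtype_compl,
        Fintype.card_subtype_eq, ← Nat.card_eq_fintype_card]
      have : 0 < Nat.card F := Nat.card_pos
      omega
    have hpos : 0 < Nat.card {u // u ≠ 1 ∧ φ g u = u} :=
      Nat.card_pos_iff.mpr ⟨⟨⟨p, hp, hfix⟩⟩, inferInstance⟩
    have hF16 : Nat.card F = 16 := by
      have hmem : Nat.card F ∈ Nat.divisors 16 := Nat.mem_divisors.mpr ⟨hFd, by norm_num⟩
      rw [show Nat.divisors 16 = {1, 2, 4, 8, 16} by decide] at hmem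
      simp only [Finset.mem_insert, Finset.mem_singleton] at hmem
      omega
    have hFtop : F = ⊤ := Subgroup.eq_top_of_card_eq F (hF16.trans hM16.symm)
    exact Equiv.ext fun u => (hFtop ▸ Subgroup.mem_top u : u ∈ F)
  have hACA : A ≤ CA' := fun α hα => ⟨hAR hα, Subgroup.mem_centralizer_iff.mpr fun β hβ => by
    obtain ⟨u, hu, rfl⟩ := hα
    obtain ⟨v, hv, rfl⟩ := hβ
    exact hAab v hv u hu⟩
  have hCA : CA' = A := by
    have hd := card_dvd_of_free CA' (fun p => p ≠ 1) (fun α hα => hne1 α hα.1) hCfree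
    rw [h15] at hd
    have h3 : ¬ 3 ∣ Nat.card CA' := fun h => h3R (h.trans (Subgroup.card_dvd_of_le inf_le_left))
    have h5 : 5 ∣ Nat.card CA' := hA5 ▸ Subgroup.card_dvd_of_le hACA
    refine (Subgroup.eq_of_le_of_card_ge hACA ?_).symm
    have hmem : Nat.card CA' ∈ Nat.divisors 15 := Nat.mem_divisors.mpr ⟨hd, by norm_num⟩
    rw [show Nat.divisors 15 = {1, 3, 5, 15} by decide] at hmem
    simp only [Finset.mem_insert, Finset.mem_singleton] at hmem
    omega
  -- b centralises A
  have hAn : ∀ g, ∀ α ∈ A, φ g * α * (φ g)⁻¹ ∈ A := fun g α ⟨u, hu, e⟩ =>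
    ⟨g * u * g⁻¹, hNn.conj_mem u hu g, by rw [map_mul, map_mul, map_inv, e]⟩
  have hbA : ∀ α ∈ A, φ b * α = α * φ b := by
    intro α hα
    rcases eq_or_ne α 1 with rfl | hne
    · simp
    haveI : Fact (Nat.Prime 5) := ⟨by norm_num⟩
    have hgen := mem_zpowers_of_prime_card (G := A) (g := ⟨α, hα⟩) (g' := ⟨_, hAn b α hα⟩) hA5
      (fun h => hne (congrArg Subtype.val h))
    rw [mem_zpowers_iff_mem_range_orderOf, Finset.mem_image] at hgen
    obtain ⟨k, -, hk⟩ := hgen
    have hk' : α ^ k = φ b * α * (φ b)⁻¹ := congrArg Subtype.val hk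
    have hord : orderOf α = 5 := by
      have h1 : orderOf α ∣ 5 := hA5 ▸ Subgroup.orderOf_dvd_natCard A hα
      exact ((Nat.dvd_prime (by norm_num)).mp h1).resolve_left
        fun h => hne (orderOf_eq_one_iff.mp h)
    have hit : ∀ n, φ b * α ^ n * (φ b)⁻¹ = α ^ (k * n) := fun n => by
      rw [pow_mul, hk', conj_pow]
    have h3 : α ^ (k * (k * (k * 1))) = α := by
      rw [← hit, ← hit, ← hit, pow_one]
      calc φ b * (φ b * (φ b * α * (φ b)⁻¹) * (φ b)⁻¹) * (φ b)⁻¹
          = φ (b * (b * b)) * α * (φ (b * (b * b)))⁻¹ := by rw [map_mul, map_mul]; group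
        _ = α := by rw [hb3, map_one, one_mul, inv_one, mul_one]
    have hk1 : k % 5 = 1 := by
      have h4' : α ^ (k * (k * (k * 1))) = α ^ 1 := by rw [h3, pow_one]
      rw [pow_eq_pow_iff_modEq, hord, mul_one] at h4'
      unfold Nat.ModEq at h4'
      rw [Nat.mul_mod, Nat.mul_mod k k] at h4'
      have hlt : k % 5 < 5 := Nat.mod_lt _ (by norm_num)
      interval_cases hk5 : k % 5 <;> omega
    have : φ b * α * (φ b)⁻¹ = α := by
      rw [← hk', ← pow_mod_orderOf α k, hord, hk1, pow_one]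
    exact mul_inv_eq_iff_eq_mul.mp this
  -- conclusion
  have hRA : R.map φ ≤ A := by
    have hsub : R ≤ A.comap φ := hC.gen.trans ((Subgroup.closure_le _).mpr fun x ⟨r, hr, hx⟩ => by
      subst hx
      show φ (r * b * r⁻¹ * b⁻¹) ∈ A
      rw [← hCA]
      refine ⟨Subgroup.mem_map_of_mem φ ?_, Subgroup.mem_centralizer_iff.mpr fun α hα => ?_⟩
      · rw [show r * b * r⁻¹ * b⁻¹ = r * (b * r⁻¹ * b⁻¹) by group]
        exact R.mul_mem hr (hC.normal.conj_mem _ (R.inv_mem hr) b)
      · have hb : Commute (φ b) α := hbA α hα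
        have hα' : φ r⁻¹ * α * (φ r⁻¹)⁻¹ ∈ A := hAn r⁻¹ α hα
        have hrb : Commute (φ r * φ b * (φ r)⁻¹) α := by
          have h := hbA _ hα'
          rw [map_inv, inv_inv] at h
          show _ * _ = _ * _
          calc φ r * φ b * (φ r)⁻¹ * α
              = φ r * (φ b * ((φ r)⁻¹ * α * φ r)) * (φ r)⁻¹ := by group
            _ = φ r * (((φ r)⁻¹ * α * φ r) * φ b) * (φ r)⁻¹ := by rw [h]
            _ = _ := by group
        rw [map_mul, map_mul, map_mul, map_inv, map_inv]
        exact (hrb.mul_left hb.inv_left).symm.eq)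
    exact Subgroup.map_le_iff_le_comap.mpr hsub
  have htriv : R ≤ φ.ker := hC.gen.trans ((Subgroup.closure_le _).mpr fun x ⟨r, hr, hx⟩ => by
    subst hx
    show φ (r * b * r⁻¹ * b⁻¹) = 1
    have h : φ b * φ r = φ r * φ b := hbA _ (hRA (Subgroup.mem_map_of_mem φ hr))
    rw [map_mul, map_mul, map_mul, map_inv, map_inv, ← h, mul_inv_cancel_right, mul_inv_cancel])
  obtain ⟨g, hg, hg'⟩ := hcon
  exact hg' (htriv hg)

end Cfsg.Agent.Grp.CubicThree
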