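import Mathlib
import Cfsg.Agent.Lib.Grp.CubicThree.Weights

/-!
A normal abelian subgroup which is not made of scalars yields the monomial shape.
-/

set_option autoImplicit false

namespace Cfsg.Agent.Grp.CubicThree

open Module

variable {Γ V : Type*} [Group Γ] [AddCommGroup V] [Module (ZMod 3) V] [Finite V]
variable {σ : Γ →* Module.End (ZMod 3) V} {b a : Γ} {R : Subgroup Γ}

theorem card_aut_two {U : Type*} [AddCommGroup U] [Module (ZMod 3) U] [Finite U]
    (h : finrank (ZMod 3) U = 2) : Nat.card (U ≃ₗ[ZMod 3] U) = 48 := by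
  haveI : FiniteDimensional (ZMod 3) U := Module.Finite.of_finite
  haveI : Fact (Nat.Prime 3) := ⟨Nat.prime_three⟩
  let e := (finBasisOfFinrankEq (ZMod 3) U h).equivFun
  rw [← Nat.card_congr (LinearMap.GeneralLinearGroup.generalLinearEquiv (ZMod 3) U).toEquiv,
    Nat.card_congr (LinearMap.GeneralLinearGroup.congrLinearEquiv e).toEquiv,
    ← Nat.card_congr (Matrix.GeneralLinearGroup.toLin (n := Fin 2) (R := ZMod 3)).toEquiv,
    Matrix.card_GL_field]
  simp [Fin.prod_univ_two, ZMod.card]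

theorem no_odd_abelian (hC : Cubic σ b R) (h4 : Four b R a) {W : Subgroup Γ} (hWn : W.Normal)
    (hWR : W ≤ R) (hab : ∀ x ∈ W, ∀ y ∈ W, x * y = y * x)
    (hroot : ∀ w ∈ W, ∃ u ∈ W, w = u * u) (hns : ∃ w ∈ W, ¬ Scalar σ w) : False := by
  haveI : Finite Γ :=
    Finite.of_injective (fun g => (σ g : V → V)) (DFunLike.coe_injective.comp hC.inj)
  haveI : FiniteDimensional (ZMod 3) V := Module.Finite.of_finite
  haveI := hWn
  set a' := b * a * b⁻¹ with ha'
  have hsq' : a' * a' = 1 := by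
    calc a' * a' = b * (a * a) * b⁻¹ := by rw [ha']; group
      _ = 1 := by rw [h4.sq]; group
  have ha''e : b * a' * b⁻¹ = b ^ 2 * a * (b ^ 2)⁻¹ := by rw [ha', pow_two]; group
  have hb3' : b * b ^ 2 = 1 := by rw [← pow_succ', hC.b3]
  -- no common fixed vectors
  have hfix0 : ∀ v : V, (∀ w ∈ W, σ w v = v) → v = 0 := by
    let U : Submodule (ZMod 3) V :=
      { carrier := {v | ∀ w ∈ W, σ w v = v}
        add_mem' := fun {x y} hx hy w hw => by rw [map_add, hx w hw, hy w hw]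
        zero_mem' := fun w _ => map_zero _
        smul_mem' := fun c v hv w hw => by rw [map_smul, hv w hw] }
    rcases hC.irr U (fun g v hv w hw => by
      rw [← apply_mul, show w * g = g * (g⁻¹ * w * g⁻¹⁻¹) by group, apply_mul,
        hv _ (hWn.conj_mem w hw g⁻¹)]) with h | h
    · exact fun v hv => (Submodule.mem_bot (ZMod 3)).mp (h ▸ hv)
    · obtain ⟨w, hw, hw'⟩ := hns
      exact absurd (Or.inl (LinearMap.ext fun v => (h ▸ Submodule.mem_top : v ∈ U) w hw)) hw'
  have hcm : ∀ c ∈ W, ∀ d ∈ W, Commute c d := fun c hc d hd => hab c hc d hd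
  have hinv : ∀ c : Γ, c * c = 1 → ∀ w ∈ W, c * (w * (c * w * c⁻¹)) = w * (c * w * c⁻¹) * c := by
    intro c hc w hw
    calc c * (w * (c * w * c⁻¹)) = (c * w * c⁻¹) * ((c * c) * w) * c⁻¹ := by group
      _ = (c * w * c⁻¹) * w * c := by rw [hc, one_mul, inv_eq_of_mul_eq_one_right hc]
      _ = _ := by rw [(hcm _ (hWn.conj_mem w hw c) _ hw).eq]
  -- the group is generated by the three centralisers
  have hdec : ∀ w ∈ W, ∃ x ∈ W, ∃ y ∈ W, ∃ z ∈ W, a * x = x * a ∧ a' * y = y * a' ∧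
      (a * a') * z = z * (a * a') ∧ w = x * y * z := by
    intro w hw
    obtain ⟨u, hu, rfl⟩ := hroot w hw
    have m1 : ∀ c, c * u * c⁻¹ ∈ W := fun c => hWn.conj_mem u hu c
    have haa' : (a * a') * (a * a') = 1 := by
      calc (a * a') * (a * a') = a * (a' * a) * a' := by group
        _ = (a * a) * (a' * a') := by rw [show a' * a = a * a' from h4.comm.symm]; group
        _ = 1 := by rw [h4.sq, hsq', one_mul]
    let P := (u * (a * u * a⁻¹)) * ((a' * u * a'⁻¹) * ((a * a') * u * (a * a')⁻¹))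
    have hP : P ∈ W := W.mul_mem (W.mul_mem hu (m1 _)) (W.mul_mem (m1 _) (m1 _))
    have hy0 := hinv a' hsq' u hu
    have hPa : a * P = P * a := by
      have e1 := hinv a h4.sq u hu
      have e2 := hinv a h4.sq (a' * u * a'⁻¹) (m1 _)
      have e3 : a * (a' * u * a'⁻¹) * a⁻¹ = (a * a') * u * (a * a')⁻¹ := by group
      rw [e3] at e2
      show a * (_ * _) = _ * _ * a
      rw [← mul_assoc, e1, mul_assoc, e2, mul_assoc]
      simp only [mul_assoc]
    have hxa : a * ((u * (a * u * a⁻¹)) * P⁻¹) = (u * (a * u * a⁻¹)) * P⁻¹ * a := by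
      have c1 : Commute a (u * (a * u * a⁻¹)) := hinv a h4.sq u hu
      have c2 : Commute a P := hPa
      exact (c1.mul_right c2.inv_right).eq
    refine ⟨(u * (a * u * a⁻¹)) * P⁻¹, W.mul_mem (W.mul_mem hu (m1 _)) (W.inv_mem hP),
      u * (a' * u * a'⁻¹), W.mul_mem hu (m1 _),
      u * ((a * a') * u * (a * a')⁻¹), W.mul_mem hu (m1 _), hxa, hy0,
      hinv _ haa' u hu, ?_⟩
    have hcomm : ∀ p q r s : W, ((p * q) * ((p * q) * (r * s))⁻¹) * (p * r) * (p * s) = p * p := by
      intro p q r s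
      have hc : ∀ x y : W, x * y = y * x := fun x y => Subtype.ext (hab _ x.2 _ y.2)
      letI : CommGroup W := { (inferInstance : Group W) with mul_comm := hc }
      calc p * q * (p * q * (r * s))⁻¹ * (p * r) * (p * s)
          = p * q * (p * q)⁻¹ * ((r * s)⁻¹ * (r * s)) * (p * p) := by
            simp only [mul_inv_rev, mul_assoc, mul_comm, mul_left_comm]
        _ = p * p := by rw [mul_inv_cancel, inv_mul_cancel, one_mul, one_mul]
    exact congrArg Subtype.val (hcomm ⟨u, hu⟩ ⟨_, m1 a⟩ ⟨_, m1 a'⟩ ⟨_, m1 (a * a')⟩).symm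
  -- an element commuting with `a` is trivial on the negated space
  have hU : ∀ w ∈ W, a * w = w * a → ∀ v ∈ negSp σ a, σ w v = v := by
    intro w hw hwa
    have hmem : ∀ x, a * x = x * a → ∀ v ∈ negSp σ a, σ x v ∈ negSp σ a := fun x hx v hv => by
      rw [mem_negSp] at hv ⊢
      rw [← apply_mul, hx, apply_mul, hv, map_neg]
    let C : Subgroup Γ := W ⊓ Subgroup.centralizer {a}
    have hCa : ∀ x : C, a * (x : Γ) = x * a := fun x =>
      Subgroup.mem_centralizer_singleton_iff.mp x.2.2 |>.symm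
    have hCa' : ∀ x : C, a * (x : Γ)⁻¹ = (x : Γ)⁻¹ * a := fun x =>
      (Commute.inv_right (hCa x : Commute a (x : Γ))).eq
    let f : C →* (negSp σ a ≃ₗ[ZMod 3] negSp σ a) :=
      { toFun := fun x => LinearEquiv.ofLinearMap
          ((σ (x : Γ)).restrict (hmem _ (hCa x))) ((σ (x : Γ)⁻¹).restrict (hmem _ (hCa' x)))
          (LinearMap.ext fun v => Subtype.ext (apply_inv_apply _ _))
          (LinearMap.ext fun v => Subtype.ext (inv_apply_apply _ _))
        map_one' := LinearEquiv.ext fun v => Subtype.ext (by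
          show σ ((1 : C) : Γ) v = v
          rw [OneMemClass.coe_one, map_one]; rfl)
        map_mul' := fun x y => LinearEquiv.ext fun v => Subtype.ext (apply_mul _ _ _) }
    have hwC : w ∈ C := ⟨hw, Subgroup.mem_centralizer_singleton_iff.mpr hwa.symm⟩
    have hd1 : orderOf (f ⟨w, hwC⟩) ∣ 48 := by
      rw [← card_aut_two (h4.negSp_facts hC).2]
      exact orderOf_dvd_natCard _
    have hd2 : orderOf (f ⟨w, hwC⟩) ∣ Nat.card W := (orderOf_map_dvd f _).trans
      ((Subgroup.orderOf_mk w hwC).symm ▸ Subgroup.orderOf_dvd_natCard W hw)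
    have hW2 : ¬ 2 ∣ Nat.card W := by
      intro h
      haveI : Fact (Nat.Prime 2) := ⟨Nat.prime_two⟩
      obtain ⟨t, ht⟩ := exists_prime_orderOf_dvd_card' 2 h
      let sq : W → W := fun x => x * x
      have hs : Function.Surjective sq := fun x => by
        obtain ⟨u, hu, e⟩ := hroot x x.2
        exact ⟨⟨u, hu⟩, Subtype.ext e.symm⟩
      have hi := Finite.injective_iff_surjective.mpr hs
      have : t = 1 := hi (by
        show t * t = 1 * 1
        rw [← pow_two, ← ht, pow_orderOf_eq_one, one_mul])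
      rw [this, orderOf_one] at ht
      omega
    have hW3 : ¬ 3 ∣ Nat.card W := fun h => hC.odd3 (h.trans (Subgroup.card_dvd_of_le hWR))
    have hco : Nat.Coprime (Nat.card W) 48 := by
      rw [show (48 : ℕ) = 2 ^ 4 * 3 by norm_num]
      exact (((Nat.prime_two.coprime_iff_not_dvd.mpr hW2).symm).pow_right 4).mul_right
        (Nat.prime_three.coprime_iff_not_dvd.mpr hW3).symm
    have h1 : f ⟨w, hwC⟩ = 1 := orderOf_eq_one_iff.mp (Nat.eq_one_of_dvd_coprimes hco hd2 hd1)
    intro v hv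
    exact congrArg Subtype.val (LinearEquiv.congr_fun h1 ⟨v, hv⟩)
  -- the line fixed by two of the centralisers
  let Y : Submodule (ZMod 3) V :=
    { carrier := {v | ∀ w ∈ W, (a * w = w * a ∨ a' * w = w * a') → σ w v = v}
      add_mem' := fun {x y} hx hy w hw h => by rw [map_add, hx w hw h, hy w hw h]
      zero_mem' := fun w _ _ => map_zero _
      smul_mem' := fun c v hv w hw h => by rw [map_smul, hv w hw h] }
  have hbY : ∀ v ∈ Y, ∀ w ∈ W, (a' * w = w * a' ∨ (a * a') * w = w * (a * a')) →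
      σ w (σ b v) = σ b v := by
    intro v hv w hw h
    rw [← apply_mul, show w * b = b * (b⁻¹ * w * b⁻¹⁻¹) by group, apply_mul,
      hv _ (hWn.conj_mem w hw b⁻¹)]
    have hprod : b * a' * b⁻¹ = a * a' := by
      have e := h4.prod
      rw [← ha', ← ha''e] at e
      rw [eq_inv_of_mul_eq_one_right e, mul_inv_rev, inv_eq_of_mul_eq_one_right hsq',
        inv_eq_of_mul_eq_one_right h4.sq]
      exact h4.comm.symm
    rcases h with h | h
    · left
      calc a * (b⁻¹ * w * b⁻¹⁻¹) = b⁻¹ * ((b * a * b⁻¹) * w) * b⁻¹⁻¹ := by group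
        _ = b⁻¹ * (w * (b * a * b⁻¹)) * b⁻¹⁻¹ := by rw [← ha', h]
        _ = _ := by group
    · right
      calc a' * (b⁻¹ * w * b⁻¹⁻¹) = b⁻¹ * ((b * a' * b⁻¹) * w) * b⁻¹⁻¹ := by group
        _ = b⁻¹ * (w * (b * a' * b⁻¹)) * b⁻¹⁻¹ := by rw [hprod, h]
        _ = _ := by group
  have hbbY : ∀ v ∈ Y, ∀ w ∈ W, ((a * a') * w = w * (a * a') ∨ a * w = w * a) →
      σ w (σ b (σ b v)) = σ b (σ b v) := by
    intro v hv w hw h
    rw [← apply_mul, show w * b = b * (b⁻¹ * w * b⁻¹⁻¹) by group, apply_mul,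
      hbY v hv _ (hWn.conj_mem w hw b⁻¹)]
    have hprod : b * a' * b⁻¹ = a * a' := by
      have e := h4.prod
      rw [← ha', ← ha''e] at e
      rw [eq_inv_of_mul_eq_one_right e, mul_inv_rev, inv_eq_of_mul_eq_one_right hsq',
        inv_eq_of_mul_eq_one_right h4.sq]
      exact h4.comm.symm
    have hprod2 : b * (a * a') * b⁻¹ = a := by
      rw [← hprod, ha''e]
      calc b * (b ^ 2 * a * (b ^ 2)⁻¹) * b⁻¹ = (b * b ^ 2) * a * (b * b ^ 2)⁻¹ := by group
        _ = a := by rw [hb3', one_mul, inv_one, mul_one]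
    rcases h with h | h
    · left
      calc a' * (b⁻¹ * w * b⁻¹⁻¹) = b⁻¹ * ((b * a' * b⁻¹) * w) * b⁻¹⁻¹ := by group
        _ = b⁻¹ * (w * (b * a' * b⁻¹)) * b⁻¹⁻¹ := by rw [hprod, h]
        _ = _ := by group
    · right
      calc a * a' * (b⁻¹ * w * b⁻¹⁻¹) = b⁻¹ * ((b * (a * a') * b⁻¹) * w) * b⁻¹⁻¹ := by group
        _ = b⁻¹ * (w * (b * (a * a') * b⁻¹)) * b⁻¹⁻¹ := by rw [hprod2, h]
        _ = _ := by group
  have hY1 : finrank (ZMod 3) Y ≤ 1 := hC.triple_rank Y fun x hx y hy z hz h => by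
    have hall : ∀ v : V, (∀ w ∈ W, a * w = w * a → σ w v = v) →
        (∀ w ∈ W, a' * w = w * a' → σ w v = v) →
        (∀ w ∈ W, (a * a') * w = w * (a * a') → σ w v = v) → v = 0 := fun v h1 h2 h3 =>
      hfix0 v fun w hw => by
        obtain ⟨p, hp, q, hq, r, hr, e1, e2, e3, rfl⟩ := hdec w hw
        rw [apply_mul, apply_mul, h3 r hr e3, h2 q hq e2, h1 p hp e1]
    have hx0 : x = 0 := hall x (fun w hw e => hx w hw (Or.inl e)) (fun w hw e => hx w hw (Or.inr e))
      fun w hw e => by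
        rw [show x = -(σ b y + σ b (σ b z)) from eq_neg_of_add_eq_zero_left (by rw [← h]; abel),
          map_neg, map_add, hbY y hy w hw (Or.inr e), hbbY z hz w hw (Or.inl e)]
    have hy0 : σ b y = 0 := hall _ (fun w hw e => by
        rw [show σ b y = -(x + σ b (σ b z)) from eq_neg_of_add_eq_zero_left (by rw [← h]; abel),
          map_neg, map_add, hx w hw (Or.inl e), hbbY z hz w hw (Or.inr e)])
      (fun w hw e => hbY y hy w hw (Or.inl e)) (fun w hw e => hbY y hy w hw (Or.inr e))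
    rw [hx0, hy0, zero_add, zero_add] at h
    refine ⟨hx0, ?_, ?_⟩
    · rw [← inv_apply_apply (σ := σ) b y, hy0, map_zero]
    · rw [← inv_apply_apply (σ := σ) b z, ← inv_apply_apply (σ := σ) b (σ b z), h, map_zero,
        map_zero]
  -- that line is nonzero and fixed
  obtain ⟨hX, -⟩ := h4.negSp_facts hC
  have hX0 : negSp σ a ⊓ negSp σ (b * a * b⁻¹) ≠ ⊥ := fun h => by
    rw [h, finrank_bot] at hX; omega
  obtain ⟨e, he, he0⟩ := Submodule.exists_mem_ne_zero_of_ne_bot hX0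
  have heY : e ∈ Y := by
    intro w hw h
    rcases h with h | h
    · exact hU w hw h e he.1
    · obtain ⟨v, rfl⟩ : ∃ v, σ b v = e := ⟨σ b⁻¹ e, apply_inv_apply b e⟩
      rw [← apply_mul, show w * b = b * (b⁻¹ * w * b⁻¹⁻¹) by group, apply_mul,
        hU _ (hWn.conj_mem w hw b⁻¹) ?_ v ((negSp_conj b a).mp he.2)]
      calc a * (b⁻¹ * w * b⁻¹⁻¹) = b⁻¹ * ((b * a * b⁻¹) * w) * b⁻¹⁻¹ := by group
        _ = b⁻¹ * (w * (b * a * b⁻¹)) * b⁻¹⁻¹ := by rw [← ha', h]
        _ = _ := by group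
  have hY1' : finrank (ZMod 3) Y = 1 := by
    have : finrank (ZMod 3) Y ≠ 0 := fun h =>
      he0 ((Submodule.mem_bot (ZMod 3)).mp (Submodule.finrank_eq_zero.mp h ▸ heY))
    omega
  have hsgn : ∀ u ∈ W, σ u e = e ∨ σ u e = -e := by
    intro u hu
    have hmem : σ u e ∈ Y := fun w hw h => by
      rw [← apply_mul, hab w hw u hu, apply_mul, heY w hw h]
    obtain ⟨c, hc⟩ := exists_smul_eq_of_finrank_eq_one hY1' (show (⟨e, heY⟩ : Y) ≠ 0 from
      fun h => he0 (congrArg Subtype.val h)) ⟨_, hmem⟩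
    have hc' : c • e = σ u e := congrArg Subtype.val hc
    rcases zmod3_cases c with rfl | rfl | rfl
    · rw [zero_smul] at hc'
      exact absurd (by rw [← inv_apply_apply (σ := σ) u e, ← hc', map_zero]) he0
    · left; rw [← hc', one_smul]
    · right; rw [← hc', neg_smul, one_smul]
  refine he0 (hfix0 e fun w hw => ?_)
  obtain ⟨u, hu, rfl⟩ := hroot w hw
  rcases hsgn u hu with h | h
  · rw [apply_mul, h, h]
  · rw [apply_mul, h, map_neg, h, neg_neg]

/-- Either the monomial shape or every normal abelian subgroup inside consists of scalars. -/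
theorem shape_or_scalar (hC : Cubic σ b R) (h4 : Four b R a) :
    Shape R ∨ ∀ W : Subgroup Γ, W.Normal → W ≤ R → (∀ x ∈ W, ∀ y ∈ W, x * y = y * x) →
      ∀ w ∈ W, Scalar σ w := by
  classical
  by_contra hcon
  push Not at hcon
  obtain ⟨hnS, hex⟩ := hcon
  haveI : Finite Γ :=
    Finite.of_injective (fun g => (σ g : V → V)) (DFunLike.coe_injective.comp hC.inj)
  let S : Set (Subgroup Γ) := {W | W.Normal ∧ W ≤ R ∧ (∀ x ∈ W, ∀ y ∈ W, x * y = y * x) ∧
    ∃ w ∈ W, ¬ Scalar σ w}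
  obtain ⟨W₀, h1, h2, h3, h4'⟩ := hex
  obtain ⟨W, hW⟩ := Set.Finite.exists_minimal (Set.toFinite S) ⟨W₀, h1, h2, h3, h4'⟩
  obtain ⟨hWn, hWR, hab, hns⟩ := hW.1
  haveI := hWn
  -- squares
  let Wsq : Subgroup Γ :=
    { carrier := {x | ∃ u ∈ W, x = u * u}
      one_mem' := ⟨1, W.one_mem, (one_mul 1).symm⟩
      mul_mem' := fun {x y} ⟨u, hu, hx⟩ ⟨v, hv, hy⟩ => ⟨u * v, W.mul_mem hu hv, by
        rw [hx, hy, mul_assoc u v, ← mul_assoc v u v, hab v hv u hu]; group⟩
      inv_mem' := fun {x} ⟨u, hu, hx⟩ => ⟨u⁻¹, W.inv_mem hu, by rw [hx, mul_inv_rev]⟩ }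
  have hsqle : Wsq ≤ W := fun x ⟨u, hu, hx⟩ => hx ▸ W.mul_mem hu hu
  have hsqn : Wsq.Normal := ⟨fun x ⟨u, hu, hx⟩ g => ⟨g * u * g⁻¹, hWn.conj_mem u hu g, by
    rw [hx]; group⟩⟩
  by_cases hsc : ∀ u ∈ W, Scalar σ (u * u)
  · -- involutions
    let W2 : Subgroup Γ :=
      { carrier := {x | x ∈ W ∧ x * x = 1}
        one_mem' := ⟨W.one_mem, one_mul 1⟩
        mul_mem' := fun {x y} hx hy => ⟨W.mul_mem hx.1 hy.1, by
          rw [mul_assoc, ← mul_assoc y x y, ← hab x hx.1 y hy.1, mul_assoc, hy.2, mul_one, hx.2]⟩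
        inv_mem' := fun {x} hx => ⟨W.inv_mem hx.1, by rw [← mul_inv_rev, hx.2, inv_one]⟩ }
    by_cases h2 : ∀ u ∈ W2, Scalar σ u
    · obtain ⟨w, hw, hw'⟩ := hns
      have key : ∀ u ∈ W, ¬ Scalar σ u → σ (u * u) = -1 := fun u hu hu' =>
        (hsc u hu).resolve_left fun h => hu' (h2 u ⟨hu, hC.inj (h.trans (map_one σ).symm)⟩)
      have hm := key w hw hw'
      have hu : b * w * b⁻¹ ∈ W := hWn.conj_mem w hw b
      have hm' : σ ((b * w * b⁻¹) * (b * w * b⁻¹)) = -1 := by
        rw [show b * w * b⁻¹ * (b * w * b⁻¹) = b * (w * w) * b⁻¹ by group, map_mul, map_mul, hm,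
          mul_neg, mul_one, neg_mul, ← map_mul, mul_inv_cancel, map_one]
      have hsq2 : (w * (b * w * b⁻¹)) * (w * (b * w * b⁻¹)) = 1 := hC.inj (by
        rw [mul_assoc, ← mul_assoc (b * w * b⁻¹) w, hab _ hu w hw, mul_assoc w, ← mul_assoc w w,
          map_mul, hm, hm', map_one]
        simp)
      rcases h2 _ ⟨W.mul_mem hw hu, hsq2⟩ with h | h
      · have e : b * w * b⁻¹ = w⁻¹ := eq_inv_of_mul_eq_one_right (hC.inj (h.trans (map_one σ).symm))
        have e1 : b * (b * w * b⁻¹) * b⁻¹ = w := by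
          rw [e, show b * w⁻¹ * b⁻¹ = (b * w * b⁻¹)⁻¹ by group, e, inv_inv]
        have e2 : w⁻¹ = w := by
          calc w⁻¹ = (b * w * b⁻¹) := e.symm
            _ = b * (b * (b * w * b⁻¹) * b⁻¹) * b⁻¹ := by rw [e1]
            _ = (b * b ^ 2) * w * (b * b ^ 2)⁻¹ := by
              simp only [pow_two, mul_inv_rev, mul_assoc]
            _ = w := by rw [← pow_succ', hC.b3, one_mul, inv_one, mul_one]
        have : σ (w * w) = 1 := by
          have e3 : w * w = 1 := by nth_rw 1 [← e2]; rw [inv_mul_cancel]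
          rw [e3, map_one]
        rw [hm] at this
        obtain ⟨v, hv⟩ : ∃ v : V, v ≠ 0 := by
          by_contra hv
          push Not at hv
          exact hw' (Or.inl (LinearMap.ext fun v => by rw [hv v, map_zero, map_zero]))
        exact hv (eq_zero_of_neg_eq (LinearMap.congr_fun this v))
      · have e : b * w * b⁻¹ = w := hC.inj (by
          calc σ (b * w * b⁻¹) = σ w⁻¹ * σ (w * (b * w * b⁻¹)) := by
                rw [← map_mul, inv_mul_cancel_left]
            _ = σ w⁻¹ * σ (w * w) := by rw [h, hm]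
            _ = σ w := by rw [← map_mul, inv_mul_cancel_left])
        exact hC.sq_ne_neg_one (mul_inv_eq_iff_eq_mul.mp e).symm hm
    · push Not at h2
      obtain ⟨u, hu, hu'⟩ := h2
      exact hnS (shape_of_elementary (W := W2) hC h4
        ⟨fun x hx g => ⟨hWn.conj_mem x hx.1 g, by
          rw [show g * x * g⁻¹ * (g * x * g⁻¹) = g * (x * x) * g⁻¹ by group, hx.2, mul_one,
            mul_inv_cancel]⟩⟩
        (fun x hx => hWR hx.1) (fun x hx y hy => hab x hx.1 y hy.1) (fun x hx => hx.2) ⟨u, hu, hu'⟩)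
  · push Not at hsc
    obtain ⟨u, hu, hu'⟩ := hsc
    have hmem : Wsq ∈ S := ⟨hsqn, hsqle.trans hWR, fun x hx y hy => hab x (hsqle hx) y (hsqle hy),
      u * u, ⟨u, hu, rfl⟩, hu'⟩
    exact no_odd_abelian hC h4 hWn hWR hab (fun w hw => hW.2 hmem hsqle hw) hns

end Cfsg.Agent.Grp.CubicThree
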