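import Mathlib
import Cfsg.Agent.Lib.Grp.CubicThree.Frame
import Cfsg.Agent.Lib.Grp.CubicThree.Class2

/-!
The shape theorem and linear facts on a four-group normalised by an element of order three.
-/

set_option autoImplicit false

namespace Cfsg.Agent.Grp.CubicThree

open Module

variable {Γ V : Type*} [Group Γ] [AddCommGroup V] [Module (ZMod 3) V]
variable {σ : Γ →* Module.End (ZMod 3) V} {b a : Γ} {R : Subgroup Γ}

theorem shape [Finite V] [Group.IsSolvable Γ] (hC : Cubic σ b R) (h4 : Four b R a) : Shape R :=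
  (shape_or_scalar hC h4).elim id fun h => (not_class_two hC h4 h).elim

/-- A vector negated by two involutions of the four-group. -/
theorem exists_double_neg (hb : b ^ 3 = 1) (h4 : Four b R a) (hne : σ a ≠ 1) :
    ∃ w : V, w ≠ 0 ∧ σ a w = -w ∧ σ (b * a * b⁻¹) w = -w := by
  set a' := b * a * b⁻¹ with ha'
  have hsq' : a' * a' = 1 := by
    calc a' * a' = b * (a * a) * b⁻¹ := by rw [ha']; group
      _ = 1 := by rw [h4.sq]; group
  have hba : b * (a * a') * b⁻¹ = a := by
    have h := h4.prod
    rw [← ha'] at h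
    have e : a * a' = b ^ 2 * a * (b ^ 2)⁻¹ := by
      rw [eq_inv_of_mul_eq_one_left h]
      refine inv_eq_of_mul_eq_one_right ?_
      calc b ^ 2 * a * (b ^ 2)⁻¹ * (b ^ 2 * a * (b ^ 2)⁻¹) = b ^ 2 * (a * a) * (b ^ 2)⁻¹ := by group
        _ = 1 := by rw [h4.sq]; group
    calc b * (a * a') * b⁻¹ = (b * b ^ 2) * a * (b * b ^ 2)⁻¹ := by rw [e]; group
      _ = a := by rw [← pow_succ', hb, one_mul, inv_one, mul_one]
  obtain ⟨v, hv0, hv⟩ : ∃ v : V, v ≠ 0 ∧ σ a v = -v := by
    obtain ⟨u, hu⟩ : ∃ u, σ a u ≠ u := by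
      by_contra h
      push Not at h
      exact hne (LinearMap.ext h)
    refine ⟨u - σ a u, sub_ne_zero.mpr (Ne.symm hu), ?_⟩
    have : σ a (σ a u) = u := by rw [← apply_mul, h4.sq, map_one]; rfl
    rw [map_sub, this, neg_sub]
  have hc : σ a (σ a' v) = -σ a' v := by rw [← apply_mul, h4.comm, apply_mul, hv, map_neg]
  have hs : σ a' (σ a' v) = v := by rw [← apply_mul, hsq', map_one]; rfl
  by_cases hp : v - σ a' v = 0
  · -- fixed by `a'`
    have hf : σ a' v = v := (sub_eq_zero.mp hp).symm
    refine ⟨σ b v, fun h => hv0 (by rw [← inv_apply_apply (σ := σ) b v, h, map_zero]), ?_, ?_⟩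
    · rw [← apply_mul, show a * b = b * (a * a') by
        calc a * b = (b * (a * a') * b⁻¹) * b := by rw [hba]
          _ = _ := by group, apply_mul, apply_mul, hf, hv, map_neg]
    · rw [← apply_mul, show a' * b = b * a by rw [ha']; group, apply_mul, hv, map_neg]
  · refine ⟨v - σ a' v, hp, ?_, ?_⟩
    · rw [map_sub, hv, hc]; abel
    · rw [map_sub, hs, neg_sub]

/-- The orbit sum of a doubly negated vector avoids any subspace fixed by both involutions. -/
theorem orbit_sum_notMem (hb : b ^ 3 = 1) (h4 : Four b R a) {U : Submodule (ZMod 3) V}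
    (hU : ∀ u ∈ U, σ a u = u) (hU' : ∀ u ∈ U, σ (b * a * b⁻¹) u = u) {w : V} (hw0 : w ≠ 0)
    (hw : σ a w = -w) (hw' : σ (b * a * b⁻¹) w = -w) :
    ((σ b - 1) * (σ b - 1)) w ∉ U := by
  intro hmem
  set a' := b * a * b⁻¹ with ha'
  have hs : ((σ b - 1) * (σ b - 1)) w = σ b (σ b w) + σ b w + w := by
    show (σ b - 1) ((σ b - 1) w) = _
    simp only [LinearMap.sub_apply, Module.End.one_apply, map_sub]
    have h3 := three_smul_eq_zero (σ b w)
    calc σ b (σ b w) - σ b w - (σ b w - w)
        = σ b (σ b w) + σ b w + w - (σ b w + σ b w + σ b w) := by abel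
      _ = _ := by rw [h3, sub_zero]
  rw [hs] at hmem
  have hsq' : a' * a' = 1 := by
    calc a' * a' = b * (a * a) * b⁻¹ := by rw [ha']; group
      _ = 1 := by rw [h4.sq]; group
  have hb3 : b * b ^ 2 = 1 := by rw [← pow_succ', hb]
  have e1 : a' * b = b * a := by rw [ha']; group
  have e2 : a * b = b * (a * a') := by
    have h := h4.prod
    rw [← ha'] at h
    have e : a * a' = b ^ 2 * a * (b ^ 2)⁻¹ := by
      rw [eq_inv_of_mul_eq_one_left h]
      refine inv_eq_of_mul_eq_one_right ?_
      calc b ^ 2 * a * (b ^ 2)⁻¹ * (b ^ 2 * a * (b ^ 2)⁻¹) = b ^ 2 * (a * a) * (b ^ 2)⁻¹ := by group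
        _ = 1 := by rw [h4.sq]; group
    calc a * b = ((b * b ^ 2) * a * (b * b ^ 2)⁻¹) * b := by rw [hb3, one_mul, inv_one, mul_one]
      _ = b * (a * a') := by rw [e]; group
  have ab : σ a (σ b w) = σ b w := by
    rw [← apply_mul, e2, apply_mul, apply_mul, hw', map_neg, hw, neg_neg]
  have a'b : σ a' (σ b w) = -σ b w := by rw [← apply_mul, e1, apply_mul, hw, map_neg]
  have abb : σ a (σ b (σ b w)) = -σ b (σ b w) := by
    rw [← apply_mul, e2, apply_mul, apply_mul, a'b, map_neg, ab, map_neg]
  have a'bb : σ a' (σ b (σ b w)) = σ b (σ b w) := by rw [← apply_mul, e1, apply_mul, ab]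
  have k1 := hU _ hmem
  rw [map_add, map_add, ab, abb, hw] at k1
  have k2 := hU' _ hmem
  rw [map_add, map_add, a'b, a'bb, hw'] at k2
  have q1 : σ b (σ b w) + w = 0 := by
    refine eq_zero_of_neg_eq ?_
    calc -(σ b (σ b w) + w) = (-σ b (σ b w) + σ b w + -w) - σ b w := by abel
      _ = σ b (σ b w) + w := by rw [k1]; abel
  have q2 : σ b w + w = 0 := by
    refine eq_zero_of_neg_eq ?_
    calc -(σ b w + w) = (σ b (σ b w) + -σ b w + -w) - σ b (σ b w) := by abel
      _ = σ b w + w := by rw [k2]; abel
  have q3 : σ b w = -w := eq_neg_of_add_eq_zero_left q2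
  rw [q3, map_neg, q3, neg_neg] at q1
  exact hw0 (eq_zero_of_neg_eq (eq_neg_of_add_eq_zero_left q1).symm)

/-- A linear map with vanishing cube and nonvanishing square has rank at least two. -/
theorem two_le_rank [Finite V] (f : Module.End (ZMod 3) V) (h3 : f * (f * f) = 0) (h2 : f * f ≠ 0) :
    2 ≤ finrank (ZMod 3) (LinearMap.range f) := by
  haveI : FiniteDimensional (ZMod 3) V := Module.Finite.of_finite
  have hlt : LinearMap.range (f * f) < LinearMap.range f := by
    refine lt_of_le_of_ne (fun x ⟨v, hv⟩ => ⟨f v, hv⟩) fun h => h2 (LinearMap.ext fun v => ?_)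
    obtain ⟨w, hw⟩ : f v ∈ LinearMap.range (f * f) := h ▸ LinearMap.mem_range_self f v
    show f (f v) = 0
    rw [← hw]
    exact LinearMap.congr_fun h3 w
  have h0 : finrank (ZMod 3) (LinearMap.range (f * f)) ≠ 0 := fun h =>
    h2 (LinearMap.range_eq_bot.mp (Submodule.finrank_eq_zero.mp h))
  have := Submodule.finrank_lt_finrank_of_lt hlt
  omega

/-- The cube vanishes. -/
theorem sub_one_cube (hb : b ^ 3 = 1) : (σ b - 1) * ((σ b - 1) * (σ b - 1)) = 0 := by
  have h3 : σ b * (σ b * σ b) = 1 := by
    rw [← map_mul, ← map_mul, ← mul_assoc, ← pow_two, ← pow_succ, hb, map_one]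
  have hexp : (σ b - 1) * ((σ b - 1) * (σ b - 1)) =
      σ b * (σ b * σ b) - 1 + ((σ b + σ b + σ b) - (σ b * σ b + σ b * σ b + σ b * σ b)) := by
    noncomm_ring
  rw [hexp, h3, sub_self, zero_add]
  refine LinearMap.ext fun v => ?_
  simp only [LinearMap.sub_apply, LinearMap.add_apply, three_smul_eq_zero, sub_zero,
    LinearMap.zero_apply]

/-- The criterion for irreducibility. -/
theorem irreducible_of_four [Finite V] (hb : b ^ 3 = 1) (h4 : Four b R a)
    (hinj : Function.Injective σ)
    (hgen : R ≤ Subgroup.closure {x : Γ | ∃ r ∈ R, x = r * b * r⁻¹ * b⁻¹})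
    (hfix : ∀ v : V, (∀ r ∈ R, σ r v = v) → v = 0)
    (hquot : ∀ (U : Submodule (ZMod 3) V) (v : V), (∀ r ∈ R, σ r v - v ∈ U) → v ∈ U)
    (hrk : finrank (ZMod 3) (LinearMap.range (σ b - 1)) = 2)
    (U : Submodule (ZMod 3) V) (hU : ∀ g, ∀ v ∈ U, σ g v ∈ U) : U = ⊥ ∨ U = ⊤ := by
  haveI : FiniteDimensional (ZMod 3) V := Module.Finite.of_finite
  have hcube := sub_one_cube (σ := σ) hb
  set N := σ b - 1 with hN
  have hgen' : ∀ (P : Γ → Prop), P 1 → (∀ x y, P x → P y → P (x * y)) → (∀ x, P x → P x⁻¹) →
      P b → (∀ g x, P x → P (g * x * g⁻¹)) → ∀ r ∈ R, P r := by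
    intro P h1 hm hi hbP hconj r hr
    let H : Subgroup Γ :=
      { carrier := {x | P x}
        one_mem' := h1
        mul_mem' := hm _ _
        inv_mem' := hi _ }
    have : R ≤ H := hgen.trans ((Subgroup.closure_le _).mpr fun x ⟨r, _, hx⟩ => by
      rw [hx]; exact hm _ _ (hconj r b hbP) (hi b hbP))
    exact this hr
  by_cases hQ : ∀ u ∈ U, σ a u = u ∧ σ (b * a * b⁻¹) u = u
  · -- trivial on the subspace
    left
    have hane : σ a ≠ 1 := fun h => h4.ne (hinj (h.trans (map_one σ).symm))
    obtain ⟨w, hw0, hw, hw'⟩ := exists_double_neg hb h4 hane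
    have hs := orbit_sum_notMem hb h4 (fun u hu => (hQ u hu).1) (fun u hu => (hQ u hu).2) hw0 hw hw'
    rw [← hN] at hs
    have hk : ∀ u ∈ U, N u = 0 := by
      intro u hu
      by_contra hne
      have hNu : N u ∈ U := by
        rw [hN, LinearMap.sub_apply, Module.End.one_apply]
        exact U.sub_mem (hU b u hu) hu
      -- the three vectors are independent in a plane
      have hli : LinearIndependent (ZMod 3) (![N w, N (N w), N u]) := by
        rw [Fintype.linearIndependent_iff]
        intro c hc
        simp [Fin.sum_univ_three] at hc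
        have hUc : c 0 • N w + c 1 • N (N w) ∈ U := by
          rw [show c 0 • N w + c 1 • N (N w) = -(c 2 • N u) from eq_neg_of_add_eq_zero_left hc]
          exact U.neg_mem (U.smul_mem _ hNu)
        have hNmem : ∀ x ∈ U, N x ∈ U := fun x hx => by
          rw [hN, LinearMap.sub_apply, Module.End.one_apply]
          exact U.sub_mem (hU b x hx) hx
        have h0 : c 0 = 0 := by
          by_contra h0
          have := hNmem _ hUc
          rw [map_add, map_smul, map_smul, show N (N (N w)) = 0 from LinearMap.congr_fun hcube w,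
            smul_zero, add_zero] at this
          exact hs (by simpa [h0] using U.smul_mem (c 0)⁻¹ this)
        have h1 : c 1 = 0 := by
          by_contra h1
          rw [h0, zero_smul, zero_add] at hUc
          exact hs (by simpa [h1] using U.smul_mem (c 1)⁻¹ hUc)
        rw [h0, h1, zero_smul, zero_smul, zero_add, zero_add] at hc
        have h2 : c 2 = 0 := (smul_eq_zero.mp hc).resolve_right hne
        intro i
        fin_cases i <;> assumption
      have hle : Submodule.span (ZMod 3) (Set.range ![N w, N (N w), N u]) ≤ LinearMap.range N := by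
        rw [Submodule.span_le]
        rintro _ ⟨i, rfl⟩
        fin_cases i
        · exact ⟨w, rfl⟩
        · exact ⟨N w, rfl⟩
        · exact ⟨u, rfl⟩
      have h3 := Submodule.finrank_mono hle
      rw [finrank_span_eq_card hli, hrk, Fintype.card_fin] at h3
      omega
    have hbU : ∀ u ∈ U, σ b u = u := fun u hu => sub_eq_zero.mp (hk u hu)
    refine (Submodule.eq_bot_iff U).mpr fun u hu => hfix u fun r hr => ?_
    exact hgen' (fun x => ∀ v ∈ U, σ x v = v) (fun v _ => by rw [map_one]; rfl)
      (fun x y hx hy v hv => by rw [apply_mul, hy v hv, hx v hv])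
      (fun x hx v hv => by conv_lhs => rw [← hx v hv]; rw [inv_apply_apply])
      hbU (fun g x hx v hv => by
        rw [apply_mul, apply_mul, hx _ (hU _ v hv), apply_inv_apply]) r hr u hu
  · right
    push Not at hQ
    -- the square is nonzero on the subspace
    have hNmem : ∀ x ∈ U, N x ∈ U := fun x hx => by
      rw [hN, LinearMap.sub_apply, Module.End.one_apply]
      exact U.sub_mem (hU b x hx) hx
    obtain ⟨u, hu, hu2⟩ : ∃ u ∈ U, N (N u) ≠ 0 := by
      let τ : Γ →* Module.End (ZMod 3) U :=
        { toFun := fun g => (σ g).restrict (hU g)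
          map_one' := LinearMap.ext fun v => Subtype.ext (by
            show σ 1 (v : V) = v
            rw [map_one]; rfl)
          map_mul' := fun g h => LinearMap.ext fun v => Subtype.ext (apply_mul g h (v : V)) }
      have hτ : τ a ≠ 1 := by
        intro h
        obtain ⟨u, hu, hu'⟩ := hQ
        have hau : ∀ v ∈ U, σ a v = v := fun v hv =>
          congrArg Subtype.val (LinearMap.congr_fun h ⟨v, hv⟩)
        refine hu' (hau u hu) ?_
        rw [apply_mul, apply_mul, hau _ (hU _ u hu), apply_inv_apply]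
      obtain ⟨w, hw0, hw, hw'⟩ := exists_double_neg (σ := τ) hb h4 hτ
      refine ⟨w, w.2, fun h => orbit_sum_notMem (σ := τ) hb h4 (U := ⊥)
        (fun u hu => by rw [(Submodule.mem_bot (ZMod 3)).mp hu, map_zero])
        (fun u hu => by rw [(Submodule.mem_bot (ZMod 3)).mp hu, map_zero]) hw0 hw hw'
        ((Submodule.mem_bot (ZMod 3)).mpr (Subtype.ext ?_))⟩
      rw [hN] at h
      show ((((τ b - 1) * (τ b - 1)) w : U) : V) = 0
      rw [← h]
      rfl
    have hle : LinearMap.range N ≤ U := by
      let W := Submodule.span (ZMod 3) (Set.range ![N u, N (N u)])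
      have hW : W ≤ LinearMap.range N ⊓ U := by
        rw [Submodule.span_le]
        rintro _ ⟨i, rfl⟩
        fin_cases i
        · exact ⟨⟨u, rfl⟩, hNmem u hu⟩
        · exact ⟨⟨N u, rfl⟩, hNmem _ (hNmem u hu)⟩
      have hli : LinearIndependent (ZMod 3) ![N u, N (N u)] := by
        rw [Fintype.linearIndependent_iff]
        intro c hc
        simp [Fin.sum_univ_two] at hc
        have h0 : c 0 = 0 := by
          have h := congrArg N hc
          rw [map_add, map_smul, map_smul, show N (N (N u)) = 0 from LinearMap.congr_fun hcube u,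
            smul_zero, add_zero, map_zero] at h
          exact (smul_eq_zero.mp h).resolve_right hu2
        rw [h0, zero_smul, zero_add] at hc
        have h1 : c 1 = 0 := (smul_eq_zero.mp hc).resolve_right hu2
        intro i
        fin_cases i <;> assumption
      have h1 := Submodule.finrank_mono hW
      rw [finrank_span_eq_card hli, Fintype.card_fin] at h1
      have heq : LinearMap.range N ⊓ U = LinearMap.range N :=
        Submodule.eq_of_le_of_finrank_le inf_le_left (by omega)
      exact inf_eq_left.mp heq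
    refine eq_top_iff.mpr fun v _ => hquot U v fun r hr => ?_
    exact hgen' (fun x => ∀ v, σ x v - v ∈ U) (fun v => by
        rw [map_one, Module.End.one_apply, sub_self]; exact U.zero_mem)
      (fun x y hx hy v => by
        rw [apply_mul, show σ x (σ y v) - v = (σ x (σ y v) - σ y v) + (σ y v - v) by abel]
        exact U.add_mem (hx _) (hy v))
      (fun x hx v => by
        have h := hx (σ x⁻¹ v)
        rw [apply_inv_apply] at h
        simpa using U.neg_mem h)
      (fun v => hle ⟨v, rfl⟩)
      (fun g x hx v => by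
        rw [apply_mul, apply_mul]
        nth_rw 2 [← apply_inv_apply (σ := σ) g v]
        rw [← map_sub]
        exact hU g _ (hx _)) r hr v

end Cfsg.Agent.Grp.CubicThree
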